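import Cfsg.Agent.H563.FC.Sig
import Cfsg.Agent.H563.FC.Iso

/-!
# Counting fixed points (helper563)
-/

set_option autoImplicit false

namespace Cfsg.Agent.H563.FC

open Cfsg.Agent.H198.FC Cfsg.Agent.H706.FC

universe u v

variable {K : Type u} [Field K] {V : Type v} [AddCommGroup V] [Module K V]

/-- a properly semilinear bijection fixes at most `m` of a set of points, `|V| ≤ m²` -/
theorem card_pts_le [Finite K] [Finite V] {g : Equiv.Perm V} {σ : K ≃+* K} (hadd : ∀ v w, g (v + w) = g v + g w)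
    (hsm : ∀ (a : K) (v : V), g (a • v) = σ a • g v) {t : K} (ht : σ t ≠ t) {X : Set V} (hX0 : ∀ w ∈ X, w ≠ 0)
    (hX : ∀ w ∈ X, ∀ w' ∈ X, ∀ l : K, w' = l • w → w' = w) {m : ℕ} (hm : Nat.card V ≤ m * m) :
    Nat.card {w : V // w ∈ X ∧ ∃ l : K, g w = l • w} ≤ m := by
  classical
  have := Fintype.ofFinite K
  have hg0 : g 0 = 0 := by
    have h1 := hadd 0 0
    rw [add_zero] at h1
    simpa using h1
  have h1 : ∀ w : {w : V // w ∈ X ∧ ∃ l : K, g w = l • w}, ∃ l : Kˣ, g w = (l : K) • (w : V) := by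
    rintro ⟨w, hw, l, hl⟩
    have hl0 : l ≠ 0 := by
      rintro rfl
      rw [zero_smul] at hl
      exact hX0 w hw (g.injective (hl.trans hg0.symm))
    exact ⟨Units.mk0 l hl0, hl⟩
  choose L hL using h1
  let P := Σ μ : Kˣ, {v : V // g v = (μ : K) • v}
  have hfac : ∀ (s : Kˣ) (w : {w : V // w ∈ X ∧ ∃ l : K, g w = l • w}),
      g ((s : K) • (w : V)) = ((Units.map (σ : K →* K) s * s⁻¹ * L w : Kˣ) : K) • ((s : K) • (w : V)) := by
    intro s w
    rw [hsm, hL, smul_smul, smul_smul]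
    congr 1
    simp only [Units.val_mul, Units.coe_map]
    have : ((s⁻¹ : Kˣ) : K) * s = 1 := Units.inv_mul s
    calc σ s * L w = σ s * (((s⁻¹ : Kˣ) : K) * s) * L w := by rw [this, mul_one]
      _ = _ := by
        show σ s * (((s⁻¹ : Kˣ) : K) * s) * L w = σ s * ((s⁻¹ : Kˣ) : K) * L w * s
        ring
  let Φ : {w : V // w ∈ X ∧ ∃ l : K, g w = l • w} × Kˣ → P := fun p =>
    ⟨Units.map (σ : K →* K) p.2 * p.2⁻¹ * L p.1, ⟨(p.2 : K) • (p.1 : V), hfac p.2 p.1⟩⟩
  have hΦ : ∀ p, (((Φ p).2 : {v : V // g v = ((Φ p).1 : K) • v}) : V) = (p.2 : K) • (p.1 : V) := fun _ => rfl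
  have hinj : Function.Injective Φ := by
    rintro ⟨w, s⟩ ⟨w', s'⟩ h
    have h1 : (s : K) • (w : V) = (s' : K) • (w' : V) := by
      rw [← hΦ (w, s), ← hΦ (w', s'), h]
    have h2 : (w' : V) = (((s'⁻¹ : Kˣ) : K) * s) • (w : V) := by
      rw [mul_smul, h1, smul_smul, Units.inv_mul, one_smul]
    have h3 : w' = w := Subtype.ext (hX _ w.2.1 _ w'.2.1 _ h2)
    rw [h3] at h1
    have h4 : (s : K) = s' := smul_left_injective K (hX0 _ w.2.1) h1
    exact Prod.ext h3.symm (Units.ext h4)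
  have h2 := Nat.card_le_card_of_injective Φ hinj
  rw [Nat.card_prod, Nat.card_sigma] at h2
  have h3 : ∑ μ : Kˣ, Nat.card {v : V // g v = (μ : K) • v} ≤ Nat.card Kˣ * m := by
    refine (Finset.sum_le_card_nsmul _ _ m fun μ _ => ?_).trans (le_of_eq ?_)
    · have h4 := semi_fix hadd hsm ht μ.ne_zero
      by_contra hcon
      have h5 : m < Nat.card {v : V // g v = (μ : K) • v} := by omega
      have h6 := Nat.mul_lt_mul'' h5 h5
      omega
    · rw [Finset.card_univ, smul_eq_mul, Nat.card_eq_fintype_card]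
  have h4 : 0 < Nat.card Kˣ := Nat.card_pos
  have h5 := h2.trans h3
  rw [mul_comm] at h5
  exact Nat.le_of_mul_le_mul_left h5 h4

/-- the eigenvectors of a linear bijection with scalar square -/
theorem card_eig_le [Finite K] [Module.Finite K V] (y : R K V) {c : K} (hc : y * y = c • (1 : R K V)) {k : ℕ}
    (hk : ∀ l : K, Module.finrank K (Module.End.eigenspace y l) ≤ k) :
    Nat.card {w : V // w ≠ 0 ∧ ∃ l : K, y w = l • w} ≤ 2 * Nat.card K ^ k := by
  classical
  have hfinV : Finite V := Module.finite_of_finite K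
  have hE : ∀ l : K, Nat.card (Module.End.eigenspace y l) ≤ Nat.card K ^ k := by
    intro l
    rw [Module.natCard_eq_pow_finrank (K := K)]
    exact Nat.pow_le_pow_right Nat.card_pos (hk l)
  by_cases hne : Nonempty {w : V // w ≠ 0 ∧ ∃ l : K, y w = l • w}
  swap
  · rw [not_nonempty_iff] at hne
    rw [Nat.card_of_isEmpty]
    exact Nat.zero_le _
  obtain ⟨w₀, hw₀, l₀, hl₀⟩ := hne
  have hsq : ∀ (w : V) (l : K), w ≠ 0 → y w = l • w → l * l = c := by
    intro w l hw hl
    have h1 := LinearMap.congr_fun hc w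
    rw [Module.End.mul_apply, hl, map_smul, hl, smul_smul, LinearMap.smul_apply, Module.End.one_apply] at h1
    exact smul_left_injective K hw h1
  have hcase : ∀ w : {w : V // w ≠ 0 ∧ ∃ l : K, y w = l • w},
      (w : V) ∈ Module.End.eigenspace y l₀ ∨ (w : V) ∈ Module.End.eigenspace y (-l₀) := by
    rintro ⟨w, hw, l, hl⟩
    have h1 : l * l = l₀ * l₀ := (hsq w l hw hl).trans (hsq w₀ l₀ hw₀ hl₀).symm
    rcases mul_self_eq_mul_self_iff.1 h1 with h2 | h2
    · left; rw [Module.End.mem_eigenspace_iff, ← h2]; exact hl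
    · right; rw [Module.End.mem_eigenspace_iff, ← h2]; exact hl
  let Φ : {w : V // w ≠ 0 ∧ ∃ l : K, y w = l • w} → (Module.End.eigenspace y l₀) ⊕ (Module.End.eigenspace y (-l₀)) :=
    fun w => if h : (w : V) ∈ Module.End.eigenspace y l₀ then Sum.inl ⟨w, h⟩
      else Sum.inr ⟨w, (hcase w).resolve_left h⟩
  have hinj : Function.Injective Φ := by
    intro w w' h
    simp only [Φ] at h
    split_ifs at h with h1 h2 h2
    · have h5 := Sum.inl.inj h
      rw [Subtype.mk.injEq] at h5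
      have h6 : (w : V) = w' := h5
      exact Subtype.ext h6
    · have h5 := Sum.inr.inj h
      rw [Subtype.mk.injEq] at h5
      have h6 : (w : V) = w' := h5
      exact Subtype.ext h6
  have h2 := Nat.card_le_card_of_injective Φ hinj
  rw [Nat.card_sum] at h2
  have := hE l₀
  have := hE (-l₀)
  omega

end Cfsg.Agent.H563.FC
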