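import Cfsg.Agent.H563.FC.Rank
import Cfsg.Agent.H198.FC.DefsB
import Cfsg.Agent.H578.Base3

/-!
# S5764, extraspecial type normalizers: reduction to one conjugate (helper563)

`base_conj`: an abelian minimal normal subgroup `A` of a finite solvable group `S` contains three elements whose common
centralizer in `S` centralizes `A` (S4374).
`mtB`, `mtL`: if `C_S(A) ∩ S^x = 1` for one isometry (resp. linear map) `x` of determinant 1 then `FiveB b S` (`Five S`).
The conjugators are `x` and `v x v⁻¹`, `v ∈ A`.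
-/

set_option autoImplicit false

namespace Cfsg.Agent.H563.FC

open Cfsg.Agent.H198.FC Cfsg.Agent.H277.FC

universe u v

section abs

variable {G : Type*} [Group G]

theorem base_conj (S A : Subgroup G) [Finite S] (hsol : Group.IsSolvable S) (hA : A ≤ S)
    (hcomm : ∀ f ∈ A, ∀ g ∈ A, f * g = g * f) (hnorm : ∀ g ∈ S, ∀ f ∈ A, g * f * g⁻¹ ∈ A)
    (hmin : ∀ B : Subgroup G, B ≤ A → (∀ g ∈ S, ∀ f ∈ B, g * f * g⁻¹ ∈ B) → B = ⊥ ∨ B = A) :
    ∃ v₁ ∈ A, ∃ v₂ ∈ A, ∃ v₃ ∈ A, ∀ k ∈ S, k * v₁ = v₁ * k → k * v₂ = v₂ * k → k * v₃ = v₃ * k →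
      ∀ f ∈ A, k * f = f * k := by
  have hfinA : Finite A := Finite.of_injective (Subgroup.inclusion hA) (Subgroup.inclusion_injective hA)
  letI : CommGroup A := { (inferInstance : Group A) with mul_comm := fun x y => Subtype.ext (hcomm _ x.2 _ y.2) }
  -- the conjugation action
  let φ : S →* MulAut A :=
    { toFun := fun g =>
        { toFun := fun f => ⟨g * f * (g : G)⁻¹, hnorm _ g.2 _ f.2⟩
          invFun := fun f => ⟨(g : G)⁻¹ * f * g, by
            have := hnorm _ (inv_mem g.2) _ f.2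
            rwa [inv_inv] at this⟩
          left_inv := fun f => Subtype.ext (by simp [mul_assoc])
          right_inv := fun f => Subtype.ext (by simp [mul_assoc])
          map_mul' := fun f f' => Subtype.ext (by simp) }
      map_one' := by
        ext f
        simp
      map_mul' := fun g g' => by
        ext f
        simp [mul_assoc] }
  have hφ : ∀ (g : S) (f : A), ((φ g f : A) : G) = g * f * (g : G)⁻¹ := fun _ _ => rfl
  letI : DistribMulAction φ.range (Additive A) :=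
    { smul := fun g v => Additive.ofMul ((g : MulAut A) v.toMul)
      one_smul := fun v => rfl
      mul_smul := fun g g' v => rfl
      smul_zero := fun g => congrArg Additive.ofMul (map_one (g : MulAut A))
      smul_add := fun g v w => congrArg Additive.ofMul (map_mul (g : MulAut A) v.toMul w.toMul) }
  have hsmul : ∀ (g : φ.range) (v : Additive A), g • v = Additive.ofMul ((g : MulAut A) v.toMul) := fun _ _ => rfl
  have hfin : Finite φ.range := Finite.of_surjective _ φ.rangeRestrict_surjective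
  have hfaith : FaithfulSMul φ.range (Additive A) := ⟨fun {g g'} h => by
    apply Subtype.ext
    ext f
    have := h (Additive.ofMul f)
    rw [hsmul, hsmul] at this
    exact congrArg Subtype.val (Additive.ofMul.injective this)⟩
  have hsolΓ : Group.IsSolvable φ.range :=
    Group.isSolvable_of_surjective (f := φ.rangeRestrict) φ.rangeRestrict_surjective
  obtain ⟨v₁, v₂, v₃, hv⟩ := Cfsg.Agent.H578.base3 (A := φ.range) (V := Additive A) hsolΓ (by
    intro U hU
    -- the subgroup of `G`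
    let B : Subgroup G :=
      { carrier := {f | ∃ h : f ∈ A, Additive.ofMul (⟨f, h⟩ : A) ∈ U}
        one_mem' := ⟨one_mem _, U.zero_mem⟩
        mul_mem' := fun {f g} ⟨hf, hf'⟩ ⟨hg, hg'⟩ => ⟨mul_mem hf hg, U.add_mem hf' hg'⟩
        inv_mem' := fun {f} ⟨hf, hf'⟩ => ⟨inv_mem hf, U.neg_mem hf'⟩ }
    have hBA : B ≤ A := fun f hf => hf.1
    rcases hmin B hBA (fun g hg f hf => ⟨hnorm g hg f hf.1, by
      obtain ⟨h1, h2⟩ := hf
      exact hU ⟨φ ⟨g, hg⟩, ⟨_, rfl⟩⟩ _ h2⟩) with h | h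
    · refine ⟨⊤, fun _ _ _ => AddSubgroup.mem_top _, ?_, by rw [sup_top_eq]⟩
      rw [inf_top_eq, eq_bot_iff]
      intro u hu
      have h1 : ((u.toMul : A) : G) ∈ B := ⟨(u.toMul).2, hu⟩
      rw [h, Subgroup.mem_bot] at h1
      have h2 : u.toMul = (1 : A) := Subtype.ext h1
      exact h2
    · refine ⟨⊥, fun g w hw => ?_, inf_bot_eq _, ?_⟩
      · rw [AddSubgroup.mem_bot] at hw ⊢
        rw [hw, smul_zero]
      · rw [sup_bot_eq, eq_top_iff]
        intro u _
        have h1 : ((u.toMul : A) : G) ∈ B := by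
          rw [h]
          exact (u.toMul).2
        exact h1.2)
  refine ⟨_, (v₁.toMul).2, _, (v₂.toMul).2, _, (v₃.toMul).2, fun k hk h1 h2 h3 f hf => ?_⟩
  have key : ∀ v : Additive A, k * ((v.toMul : A) : G) = ((v.toMul : A) : G) * k →
      (⟨φ ⟨k, hk⟩, ⟨_, rfl⟩⟩ : φ.range) • v = v := by
    intro v h
    rw [hsmul]
    have : (φ ⟨k, hk⟩) v.toMul = v.toMul := by
      apply Subtype.ext
      rw [hφ]
      show k * ((v.toMul : A) : G) * k⁻¹ = ((v.toMul : A) : G)
      rw [h, mul_inv_cancel_right]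
    exact congrArg Additive.ofMul this
  have h4 := hv _ (key _ h1) (key _ h2) (key _ h3)
  have h5 : φ ⟨k, hk⟩ = 1 := congrArg Subtype.val h4
  have h6 : k * f * k⁻¹ = f := by
    have h7 : φ ⟨k, hk⟩ ⟨f, hf⟩ = (1 : MulAut A) ⟨f, hf⟩ := by rw [h5]
    exact congrArg Subtype.val h7
  rw [mul_inv_eq_iff_eq_mul] at h6
  exact h6

end abs

section lin

variable {K : Type u} [Field K] [Finite K] {V : Type v} [AddCommGroup V] [Module K V] [Module.Finite K V]
  {S A : Subgroup (Equiv.Perm (R K V))} {r a : ℕ}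

theorem finite_R : Finite (R K V) := by
  have : Module.Finite K (R K V) := inferInstance
  exact Module.finite_of_finite K

/-- the abstract part -/
theorem mt_key (h : C6Data S A r a) (hsol : Group.IsSolvable S) (x : (R K V)ˣ)
    (hx : ∀ f ∈ S, (∀ c ∈ A, f * c = c * f) → cj K V x * f * (cj K V x)⁻¹ ∈ S → f = 1) :
    ∃ y : Fin 3 → (R K V)ˣ, (∀ i, y i ∈ Hat A) ∧ ∀ f ∈ S, cj K V x * f * (cj K V x)⁻¹ ∈ S →
      (∀ i, cj K V (y i * x * (y i)⁻¹) * f * (cj K V (y i * x * (y i)⁻¹))⁻¹ ∈ S) → f = 1 := by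
  have := finite_R (K := K) (V := V)
  obtain ⟨v₁, h1, v₂, h2, v₃, h3, hv⟩ := base_conj S A hsol h.2.2.2.1 h.2.2.2.2.2.2.2.1 h.2.2.2.2.2.2.2.2.2.1
    h.2.2.2.2.2.2.2.2.2.2
  obtain ⟨y₁, e1⟩ := h.2.2.2.2.1 h1
  obtain ⟨y₂, e2⟩ := h.2.2.2.2.1 h2
  obtain ⟨y₃, e3⟩ := h.2.2.2.2.1 h3
  refine ⟨![y₁, y₂, y₃], fun i => ?_, fun f hf h0 hi => ?_⟩
  · fin_cases i
    · show cj K V y₁ ∈ A
      rw [e1]; exact h1
    · show cj K V y₂ ∈ A
      rw [e2]; exact h2
    · show cj K V y₃ ∈ A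
      rw [e3]; exact h3
  have key : ∀ (v : Equiv.Perm (R K V)) (y : (R K V)ˣ), v ∈ A → cj K V y = v →
      cj K V (y * x * y⁻¹) * f * (cj K V (y * x * y⁻¹))⁻¹ ∈ S → f * v = v * f := by
    intro v y hv hy hm
    rw [map_mul, map_mul, map_inv, hy] at hm
    have hvS := h.2.2.2.1 hv
    have h6 : cj K V x * (v⁻¹ * f * v) * (cj K V x)⁻¹ ∈ S := by
      have := mul_mem (mul_mem (inv_mem hvS) hm) hvS
      have e : v⁻¹ * (v * cj K V x * v⁻¹ * f * (v * cj K V x * v⁻¹)⁻¹) * v =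
          cj K V x * (v⁻¹ * f * v) * (cj K V x)⁻¹ := by group
      rwa [e] at this
    have h7 : f⁻¹ * v⁻¹ * f * v ∈ A := by
      have := h.2.2.2.2.2.2.2.2.2.1 _ (inv_mem hf) _ (inv_mem hv)
      rw [inv_inv] at this
      exact mul_mem this hv
    have h8 : cj K V x * (f⁻¹ * v⁻¹ * f * v) * (cj K V x)⁻¹ ∈ S := by
      have := mul_mem (inv_mem h0) h6
      have e : (cj K V x * f * (cj K V x)⁻¹)⁻¹ * (cj K V x * (v⁻¹ * f * v) * (cj K V x)⁻¹) =
          cj K V x * (f⁻¹ * v⁻¹ * f * v) * (cj K V x)⁻¹ := by group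
      rwa [e] at this
    have h9 := hx _ (h.2.2.2.1 h7) (fun c hc => h.2.2.2.2.2.2.2.1 _ h7 _ hc) h8
    have h10 : v * f * (f⁻¹ * v⁻¹ * f * v) = f * v := by group
    rw [h9, mul_one] at h10
    exact h10.symm
  exact hx f hf (hv f hf (key v₁ y₁ h1 e1 (hi 0)) (key v₂ y₂ h2 e2 (hi 1)) (key v₃ y₃ h3 e3 (hi 2))) h0

/-- **MT for `Five`** -/
theorem mtL (h : C6Data S A r a) (hsol : Group.IsSolvable S) (x : (R K V)ˣ) (hdet : LinearMap.det (x : R K V) = 1)
    (hx : ∀ f ∈ S, (∀ c ∈ A, f * c = c * f) → cj K V x * f * (cj K V x)⁻¹ ∈ S → f = 1) : Five S := by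
  obtain ⟨y, hy, hS⟩ := mt_key h hsol x hx
  refine ⟨Fin.cons x fun i => y i * x * (y i)⁻¹, fun i => ?_, fun f hf hi => hS f hf (hi 0) fun i => hi i.succ⟩
  refine Fin.cases hdet (fun j => ?_) i
  rw [Fin.cons_succ, Units.val_mul, Units.val_mul, map_mul, map_mul, hdet, mul_one, ← map_mul, Units.mul_inv, map_one]

/-- **MT for `FiveB`** -/
theorem mtB {b : Cl K V} (hSb : S ≤ RB b) (h : C6Data S A r a) (hsol : Group.IsSolvable S) (x : (R K V)ˣ)
    (hdet : LinearMap.det (x : R K V) = 1) (hiso : b.Isom (x : R K V))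
    (hx : ∀ f ∈ S, (∀ c ∈ A, f * c = c * f) → cj K V x * f * (cj K V x)⁻¹ ∈ S → f = 1) : FiveB b S := by
  obtain ⟨y, hy, hS⟩ := mt_key h hsol x hx
  refine ⟨Fin.cons x fun i => y i * x * (y i)⁻¹, fun i => ?_, fun i => ?_,
    fun f hf hi => hS f hf (hi 0) fun i => hi i.succ⟩
  · refine Fin.cases hdet (fun j => ?_) i
    rw [Fin.cons_succ, Units.val_mul, Units.val_mul, map_mul, map_mul, hdet, mul_one, ← map_mul, Units.mul_inv,
      map_one]
  · refine Fin.cases hiso (fun j => ?_) i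
    rw [Fin.cons_succ]
    have h1 : cj K V (y j) ∈ RB b := hSb (h.2.2.2.1 (hy j))
    have h2 : b.Adj (x : R K V) ((x⁻¹ : (R K V)ˣ) : R K V) := by
      intro v w
      have h3 := hiso v (((x⁻¹ : (R K V)ˣ) : R K V) w)
      rw [← h3]
      congr 1
      rw [← Module.End.mul_apply, Units.mul_inv, Module.End.one_apply]
    have h3 := (h1.2 _ _).1 h2
    rw [cj_apply, cj_apply] at h3
    intro v w
    have h4 := h3 v ((((y j * x * (y j)⁻¹ : (R K V)ˣ)) : R K V) w)
    have h5 : ((y j : R K V) * ((x⁻¹ : (R K V)ˣ) : R K V) * (((y j)⁻¹ : (R K V)ˣ) : R K V))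
        ((((y j * x * (y j)⁻¹ : (R K V)ˣ)) : R K V) w) = w := by
      rw [← Module.End.mul_apply, ← Units.val_mul, ← Units.val_mul, ← Units.val_mul]
      rw [show y j * x⁻¹ * (y j)⁻¹ * (y j * x * (y j)⁻¹) = 1 by group]
      rfl
    rw [h5] at h4
    exact h4

end lin

end Cfsg.Agent.H563.FC
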