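import Cfsg.Agent.H563.FC.P5a

/-!
# S5764: extraspecial type normalizers, unitary, `n = r ≥ 5` prime (helper563)

`w = e₀ + α e₁`, `α τ(α) = -1`.
-/

set_option autoImplicit false

namespace Cfsg.Agent.H563.FC

open Module Cfsg.Agent.H198.FC Cfsg.Agent.H277.FC Cfsg.Agent.H706.FC
open Cfsg.Agent.H710.FC (Heis)

universe u v

variable {K : Type u} [Field K] {V : Type v} [AddCommGroup V] [Module K V] {β : Cl K V}
variable {r : ℕ} {ω : K} {P Z : (R K V)ˣ} {e : Basis (ZMod r) K V}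

namespace HF

section a

variable (h : HF β r ω P Z e)

include h

theorem ch_add (i j : ZMod r) : Heis.ch r ω (i + j) = Heis.ch r ω i * Heis.ch r ω j := by
  have := h.ne
  have h1 : i + j = ((i.val + j.val : ℕ) : ZMod r) := by
    rw [Nat.cast_add, ZMod.natCast_zmod_val, ZMod.natCast_zmod_val]
  rw [h1, h.hs.ch_nat, pow_add]
  rfl

theorem P_pow (n : ℕ) (m : ZMod r) : ((P : R K V) ^ n) (e m) = e (m + n) := by
  induction n with
  | zero => rw [pow_zero, Nat.cast_zero, add_zero]; rfl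
  | succ n ih => rw [pow_succ', Module.End.mul_apply, ih, h.eP, Nat.cast_succ, add_assoc]

theorem Z_pow' (n : ℕ) (m : ZMod r) : ((Z : R K V) ^ n) (e m) = Heis.ch r ω m ^ n • e m := by
  induction n with
  | zero => rw [pow_zero, pow_zero, one_smul]; rfl
  | succ n ih => rw [pow_succ', Module.End.mul_apply, ih, map_smul, h.eZ, smul_smul, pow_succ]

theorem PZ (i j : ℕ) (m : ZMod r) :
    ((P : R K V) ^ i * (Z : R K V) ^ j) (e m) = Heis.ch r ω m ^ j • e (m + i) := by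
  rw [Module.End.mul_apply, h.Z_pow', map_smul, h.P_pow]

theorem cast_ne {a b : ℕ} (ha : a < 5) (hb : b < 5) (hab : a ≠ b) : (a : ZMod r) ≠ (b : ZMod r) := by
  intro h1
  have h5 := h.five
  rw [ZMod.natCast_eq_natCast_iff'] at h1
  rw [Nat.mod_eq_of_lt (by omega), Nat.mod_eq_of_lt (by omega)] at h1
  exact hab h1

end a

/-- the elements of `Hat A` -/
theorem hat [Module.Finite K V] {S A : Subgroup (Equiv.Perm (R K V))} {r' a : ℕ} (h : HF β r ω P Z e)
    (hA : C6Data S A r' a) (hP : P ∈ Hat A) (hZ : Z ∈ Hat A) {y : (R K V)ˣ} (hy : y ∈ Hat A) :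
    ∃ (ν : K) (i j : ℕ), ν ≠ 0 ∧ (y : R K V) = ν • ((P : R K V) ^ i * (Z : R K V) ^ j) := by
  have := nontrivial_of hA
  obtain ⟨c₁, -, h1⟩ := comm_smul hA hy hZ
  obtain ⟨c₂, -, h2⟩ := comm_smul hA hy hP
  obtain ⟨i, j, hij⟩ := h.hs.lift h1 h2
  obtain ⟨ν, hν, hy'⟩ := cj_eq hij
  exact ⟨ν, i, j, hν, by rw [hy', Units.val_mul, Units.val_pow_eq_pow_val, Units.val_pow_eq_pow_val]⟩

/-- the vector `e₀ + α e₁` -/
noncomputable def wv (e : Basis (ZMod r) K V) (α : K) : V := e ((0 : ℕ) : ZMod r) + α • e ((1 : ℕ) : ZMod r)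

section b

variable (h : HF β r ω P Z e) {α : K}

include h

theorem cast0 : e ((0 : ℕ) : ZMod r) = e 0 := by rw [Nat.cast_zero]

theorem B0w (α : K) : β.B (e ((0 : ℕ) : ZMod r)) (wv e α) = β.B (e 0) (e 0) := by
  rw [wv, β.add_right, β.smul_right, h.diag, h.orth (h.cast_ne (by norm_num) (by norm_num) (by norm_num)), mul_zero,
    add_zero]

theorem B1w (α : K) : β.B (e ((1 : ℕ) : ZMod r)) (wv e α) = β.τ α * β.B (e 0) (e 0) := by
  rw [wv, β.add_right, β.smul_right, h.diag ((1 : ℕ) : ZMod r),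
    h.orth (h.cast_ne (by norm_num) (by norm_num) (by norm_num)), zero_add]

theorem Bmw (α : K) {m : ZMod r} (h0 : m ≠ ((0 : ℕ) : ZMod r)) (h1 : m ≠ ((1 : ℕ) : ZMod r)) :
    β.B (e m) (wv e α) = 0 := by
  rw [wv, β.add_right, β.smul_right, h.orth h0, h.orth h1, mul_zero, add_zero]

theorem wv_ne (α : K) : wv e α ≠ 0 := by
  intro h0
  have h1 := h.B0w α
  rw [h0, B_zero_right] at h1
  exact h.D_ne h1.symm

theorem wv_iso (hα : α * β.τ α = -1) : β.B (wv e α) (wv e α) = 0 := by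
  have h1 : β.B (wv e α) (wv e α) = β.B (e ((0 : ℕ) : ZMod r)) (wv e α) +
      α * β.B (e ((1 : ℕ) : ZMod r)) (wv e α) := by
    conv_lhs => rw [show wv e α = e ((0 : ℕ) : ZMod r) + α • e ((1 : ℕ) : ZMod r) from rfl, β.add_left, β.smul_left]
    rfl
  rw [h1, h.B0w, h.B1w]
  linear_combination (β.B (e 0) (e 0)) * hα

theorem repr_wv (α : K) (m : ZMod r) : e.repr (wv e α) m =
    (if m = ((0 : ℕ) : ZMod r) then 1 else 0) + α * (if m = ((1 : ℕ) : ZMod r) then 1 else 0) := by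
  rw [wv, map_add, map_smul, Basis.repr_self, Basis.repr_self, Finsupp.add_apply, Finsupp.smul_apply,
    Finsupp.single_apply, Finsupp.single_apply, smul_eq_mul]
  congr 1
  · by_cases hm : m = ((0 : ℕ) : ZMod r)
    · rw [if_pos hm, if_pos hm.symm]
    · rw [if_neg hm, if_neg (Ne.symm hm)]
  · congr 1
    by_cases hm : m = ((1 : ℕ) : ZMod r)
    · rw [if_pos hm, if_pos hm.symm]
    · rw [if_neg hm, if_neg (Ne.symm hm)]

theorem repr_wv0 (α : K) : e.repr (wv e α) ((0 : ℕ) : ZMod r) = 1 := by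
  rw [h.repr_wv, if_pos rfl, if_neg (h.cast_ne (by norm_num) (by norm_num) (by norm_num)), mul_zero, add_zero]

theorem repr_wv1 (α : K) : e.repr (wv e α) ((1 : ℕ) : ZMod r) = α := by
  rw [h.repr_wv, if_pos rfl, if_neg (h.cast_ne (by norm_num) (by norm_num) (by norm_num)), mul_one, zero_add]

theorem repr_wvm (α : K) {m : ZMod r} (h0 : m ≠ ((0 : ℕ) : ZMod r)) (h1 : m ≠ ((1 : ℕ) : ZMod r)) :
    e.repr (wv e α) m = 0 := by
  rw [h.repr_wv, if_neg h0, if_neg h1, mul_zero, add_zero]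

theorem alpha_ne (hα : α * β.τ α = -1) : α ≠ 0 := by
  rintro rfl
  rw [zero_mul] at hα
  exact neg_ne_zero.2 one_ne_zero hα.symm

end b

/-- condition `h1` -/
theorem cond1 [Module.Finite K V] {S A : Subgroup (Equiv.Perm (R K V))} {r' a : ℕ} (h : HF β r ω P Z e)
    (hA : C6Data S A r' a) (hP : P ∈ Hat A) (hZ : Z ∈ Hat A) {α : K} (hα : α * β.τ α = -1) {y : (R K V)ˣ}
    (hy : y ∈ Hat A) {l : K} (hl : (y : R K V) (wv e α) = l • wv e α) : Scal y := by
  have := h.ne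
  have hα0 := h.alpha_ne hα
  obtain ⟨ν, i, j, hν, hyν⟩ := h.hat hA hP hZ hy
  have h1 : (y : R K V) (wv e α) = ν • (e ((0 : ℕ) + i : ZMod r) + (α * ω ^ j) • e ((1 : ℕ) + i : ZMod r)) := by
    rw [hyν, wv, LinearMap.smul_apply, map_add, map_smul, h.PZ, h.PZ, h.hs.ch_nat, h.hs.ch_nat, pow_zero, one_pow,
      one_smul, pow_one, smul_smul]
  have h2 : ∀ m, e.repr ((y : R K V) (wv e α)) m = ν * ((if ((0 : ℕ) + i : ZMod r) = m then 1 else 0) +
      (α * ω ^ j) * (if ((1 : ℕ) + i : ZMod r) = m then 1 else 0)) := by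
    intro m
    rw [h1, map_smul, map_add, map_smul, Basis.repr_self, Basis.repr_self, Finsupp.smul_apply, Finsupp.add_apply,
      Finsupp.smul_apply, Finsupp.single_apply, Finsupp.single_apply, smul_eq_mul, smul_eq_mul]
  have h3 : ∀ m, e.repr ((y : R K V) (wv e α)) m = l * e.repr (wv e α) m := by
    intro m
    rw [hl, map_smul, Finsupp.smul_apply, smul_eq_mul]
  have h01 : ((0 : ℕ) : ZMod r) ≠ ((1 : ℕ) : ZMod r) := h.cast_ne (by norm_num) (by norm_num) (by norm_num)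
  have hne : ((1 : ℕ) + i : ZMod r) ≠ ((0 : ℕ) + i : ZMod r) := fun h0 => h01 (add_right_cancel h0).symm
  have hω0 : ω ^ j ≠ 0 := pow_ne_zero _ h.hs.ω_ne
  -- `i = 0`
  have hi : ((i : ℕ) : ZMod r) = 0 := by
    by_contra hi0
    have h4 := (h2 ((0 : ℕ) + i : ZMod r)).symm.trans (h3 _)
    rw [if_pos rfl, if_neg hne, mul_zero, add_zero, mul_one] at h4
    have h5 : ((0 : ℕ) + i : ZMod r) ≠ ((0 : ℕ) : ZMod r) := by simpa using hi0
    by_cases h6 : ((0 : ℕ) + i : ZMod r) = ((1 : ℕ) : ZMod r)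
    · have h7 := (h2 ((1 : ℕ) + i : ZMod r)).symm.trans (h3 _)
      rw [if_neg (Ne.symm hne), if_pos rfl, zero_add, mul_one] at h7
      have h8 : ((1 : ℕ) + i : ZMod r) = ((2 : ℕ) : ZMod r) := by
        have : ((i : ℕ) : ZMod r) = ((1 : ℕ) : ZMod r) := by rw [← h6, Nat.cast_zero, zero_add]
        rw [this]
        push_cast
        norm_num
      rw [h8, h.repr_wvm α (h.cast_ne (by norm_num) (by norm_num) (by norm_num))
        (h.cast_ne (by norm_num) (by norm_num) (by norm_num)), mul_zero] at h7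
      exact mul_ne_zero hν (mul_ne_zero hα0 hω0) h7
    · rw [h.repr_wvm α h5 h6, mul_zero] at h4
      exact hν h4
  have h4 := (h2 ((0 : ℕ) : ZMod r)).symm.trans (h3 _)
  have h5 := (h2 ((1 : ℕ) : ZMod r)).symm.trans (h3 _)
  rw [hi, add_zero, add_zero, if_pos rfl, if_neg (Ne.symm h01), h.repr_wv0, mul_zero, add_zero, mul_one] at h4
  rw [hi, add_zero, add_zero, if_neg h01, if_pos rfl, h.repr_wv1, zero_add, mul_one, h4, mul_one] at h5
  have hl0 : l ≠ 0 := by
    rintro rfl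
    rw [zero_mul] at h4
    exact hν h4
  have h6 : ω ^ j = 1 := by
    have h7 : (l * α) * ω ^ j = (l * α) * 1 := by linear_combination h5
    exact mul_left_cancel₀ (mul_ne_zero hl0 hα0) h7
  have h7 : (Z : R K V) ^ j = 1 := by
    obtain ⟨t, ht⟩ := h.hs.prim.dvd_of_pow_eq_one j h6
    rw [ht, pow_mul, h.hs.Zr', one_pow]
  have h8 : (P : R K V) ^ i = 1 := by
    obtain ⟨t, ht⟩ := (ZMod.natCast_eq_zero_iff i r).1 hi
    rw [ht, pow_mul, h.hs.Pr', one_pow]
  exact ⟨ν, by rw [hyν, h7, h8, one_mul]⟩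

/-- images of lifts -/
theorem map_lift [Nontrivial V] {f : Equiv.Perm (R K V)} (hf : f ∈ RP K V) {x : (R K V)ˣ}
    (hc : f * cj K V x = cj K V x * f) : ∃ c : K, c ≠ 0 ∧ f (x : R K V) = c • (x : R K V) := by
  have h1 := f_cj hf x
  rw [hc] at h1
  obtain ⟨c, hc0, hc⟩ := cj_eq (mul_right_cancel h1).symm
  exact ⟨c, hc0, hc⟩

/-- the field automorphism of an element centralizing `P, Z` fixes `ω` -/
theorem sig_om [Nontrivial V] (h : HF β r ω P Z e) {f : Equiv.Perm (R K V)} (hf : f ∈ RP K V)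
    (hP : f * cj K V P = cj K V P * f) (hZ : f * cj K V Z = cj K V Z * f) {σ : K ≃+* K} (hσ : HasSig f σ) :
    σ ω = ω := by
  obtain ⟨p, hp0, hp⟩ := map_lift hf hP
  obtain ⟨z, hz0, hz⟩ := map_lift hf hZ
  have h1 := congrArg f h.hs.comm
  rw [hf.2, hp, hz, hσ.smul hf, hf.2, hp, hz, smul_mul_assoc, mul_smul_comm, smul_mul_assoc, mul_smul_comm, h.hs.comm,
    smul_smul, smul_smul, smul_smul, smul_smul] at h1
  have h2 : ((P * Z : (R K V)ˣ) : R K V) ≠ 0 := Units.ne_zero _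
  rw [Units.val_mul] at h2
  have h3 := smul_left_injective K h2 h1
  have h4 : (z * p) * σ ω = (z * p) * ω := by linear_combination -h3
  exact mul_left_cancel₀ (mul_ne_zero hz0 hp0) h4

/-- the semilinear map permutes the lines of the basis -/
theorem semi_basis [Module.Finite K V] [Nontrivial V] (h : HF β r ω P Z e) {f : Equiv.Perm (R K V)} (hf : f ∈ RP K V)
    (hP : f * cj K V P = cj K V P * f) (hZ : f * cj K V Z = cj K V Z * f) :
    ∃ (σ : K ≃+* K) (F : Equiv.Perm V) (k : ZMod r) (φ : ZMod r → K), HasSig f σ ∧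
      (∀ v w, F (v + w) = F v + F w) ∧ (∀ (a : K) (v : V), F (a • v) = σ a • F v) ∧
      (∀ (X : R K V) (v : V), f X (F v) = F (X v)) ∧ (∀ i, φ i ≠ 0) ∧ ∀ i, F (e i) = φ i • e (i + k) := by
  obtain ⟨σ, hσ⟩ := exists_sig hf
  have hσω := h.sig_om hf hP hZ hσ
  obtain ⟨F, hadd, hsm, hF⟩ := hσ.semi hf
  obtain ⟨z, hz0, hz⟩ := map_lift hf hZ
  have hF0 : F 0 = 0 := by
    have h1 := hadd 0 0
    rw [add_zero] at h1
    simpa using h1
  have hpow : ∀ k : ℕ, f ((Z : R K V) ^ k) = z ^ k • (Z : R K V) ^ k := by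
    intro k
    induction k with
    | zero => rw [pow_zero, pow_zero, one_smul, RP_map_one hf]
    | succ k ih => rw [pow_succ, hf.2, ih, hz, smul_mul_smul_comm, pow_succ]
  have hzr : z ^ r = 1 := by
    have h1 := hpow r
    rw [h.hs.Zr', RP_map_one hf] at h1
    have h2 : (z ^ r - 1) • (1 : R K V) = 0 := by rw [sub_smul, ← h1, one_smul, sub_self]
    rcases smul_eq_zero.1 h2 with h3 | h3
    · exact sub_eq_zero.1 h3
    · exact absurd h3 one_ne_zero
  obtain ⟨k, hk⟩ := h.hs.exists_ch (a := z⁻¹) (by rw [inv_pow, hzr, inv_one])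
  have hσch : ∀ i, σ (Heis.ch r ω i) = Heis.ch r ω i := fun i => by
    show σ (ω ^ i.val) = ω ^ i.val
    rw [map_pow, hσω]
  have h1 : ∀ i, ∃ t : K, t ≠ 0 ∧ F (e i) = t • e (i + k) := by
    intro i
    have hne : F (e i) ≠ 0 := fun h0 => e.ne_zero i (F.injective (h0.trans hF0.symm))
    obtain ⟨k', t, hk', ht, hFt⟩ := h.hs.eigvec h.eZ hne (c := Heis.ch r ω (i + k)) (by
      have h2 := hF (Z : R K V) (e i)
      rw [hz, LinearMap.smul_apply, h.eZ, hsm, hσch] at h2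
      rw [h.ch_add, hk, mul_comm, mul_smul, ← h2, smul_smul, inv_mul_cancel₀ hz0, one_smul])
    have h3 := h.hs.ch_inj hk'
    exact ⟨t, ht, by rw [hFt, h3]⟩
  choose φ hφ0 hφ using h1
  exact ⟨σ, F, k, φ, hσ, hadd, hsm, hF, hφ0, hφ⟩

theorem exists_m (h : HF β r ω P Z e) (a b c d : ZMod r) : ∃ m : ZMod r, m ≠ a ∧ m ≠ b ∧ m ≠ c ∧ m ≠ d := by
  have := h.ne
  by_contra hcon
  push Not at hcon
  have h4 : (Finset.univ : Finset (ZMod r)) ⊆ {a, b, c, d} := by
    intro m _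
    simp only [Finset.mem_insert, Finset.mem_singleton]
    by_cases h1 : m = a
    · exact Or.inl h1
    by_cases h2 : m = b
    · exact Or.inr (Or.inl h2)
    by_cases h3 : m = c
    · exact Or.inr (Or.inr (Or.inl h3))
    · exact Or.inr (Or.inr (Or.inr (hcon m h1 h2 h3)))
  have h5 := (Finset.card_le_card h4).trans Finset.card_le_four
  rw [Finset.card_univ, ZMod.card] at h5
  have h6 := h.five
  omega

/-- condition `h3` -/
theorem cond3 [Module.Finite K V] {S A : Subgroup (Equiv.Perm (R K V))} {r' a : ℕ} (h : HF β r ω P Z e)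
    (hA : C6Data S A r' a) (hSb : S ≤ RB β) (hP : P ∈ Hat A) (hZ : Z ∈ Hat A) {α : K} (hα : α * β.τ α = -1)
    {c : K} (hc0 : c ≠ 0) (hc1 : 1 + c * β.B (e 0) (e 0) ≠ 0) (hc2 : 1 - c * β.B (e 0) (e 0) ≠ 0)
    (hN : Nil β (tw β c (wv e α)) (wv e α)) {f : Equiv.Perm (R K V)} (hf : f ∈ S) (hfc : ∀ a ∈ A, f * a = a * f)
    (hfx : cj K V (uN (tw β c (wv e α)) hN.sq) * f * (cj K V (uN (tw β c (wv e α)) hN.sq))⁻¹ ∈ S) :
    f (tw β c (wv e α)) = tw β c (wv e α) := by
  have := h.ne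
  have := nontrivial_of hA
  have hfP : f ∈ RP K V := (hSb hf).1
  have hα0 := h.alpha_ne hα
  obtain ⟨σ, F, k, φ, hσ, hadd, hsm, hF, hφ0, hφ⟩ := h.semi_basis hfP (hfc _ hP) (hfc _ hZ)
  set w := wv e α with hw
  set D := β.B (e 0) (e 0) with hD
  set N := tw β c w with hNdef
  have hD0 : D ≠ 0 := h.D_ne
  -- `T = f N`
  have hT0 : ∀ m : ZMod r, m - k ≠ ((0 : ℕ) : ZMod r) → m - k ≠ ((1 : ℕ) : ZMod r) → f N (e m) = 0 := by
    intro m h0 h1
    have e1 := hF N (e (m - k))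
    rw [hφ, sub_add_cancel, map_smul, hNdef, tw_apply, h.Bmw α h0 h1, mul_zero, zero_smul] at e1
    have e2 : F 0 = 0 := by
      have h1 := hadd 0 0
      rw [add_zero] at h1
      simpa using h1
    rw [e2] at e1
    exact (smul_eq_zero.1 e1).resolve_left (hφ0 _)
  set x := uN N hN.sq with hx
  set u : (R K V)ˣ := x * (fu hfP x)⁻¹ with hu
  have huv : ∀ v, (u : R K V) v = (v - f N v) + N (v - f N v) := by
    intro v
    have e1 : (((fu hfP x)⁻¹ : (R K V)ˣ) : R K V) = 1 - f N := by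
      have e2 : (((fu hfP x)⁻¹ : (R K V)ˣ) : R K V) = f ((x⁻¹ : (R K V)ˣ) : R K V) := rfl
      have e3 : ((x⁻¹ : (R K V)ˣ) : R K V) = 1 - N := rfl
      rw [e2, e3, RP_map_sub hfP, RP_map_one hfP]
    rw [hu, Units.val_mul, e1, hx, uN_val]
    rfl
  have hN0 : ∀ m : ZMod r, m ≠ ((0 : ℕ) : ZMod r) → m ≠ ((1 : ℕ) : ZMod r) → N (e m) = 0 := by
    intro m h0 h1
    rw [hNdef, tw_apply, h.Bmw α h0 h1, mul_zero, zero_smul]
  have hum : ∀ m : ZMod r, m ≠ ((0 : ℕ) : ZMod r) → m ≠ ((1 : ℕ) : ZMod r) → m - k ≠ ((0 : ℕ) : ZMod r) →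
      m - k ≠ ((1 : ℕ) : ZMod r) → (u : R K V) (e m) = e m := by
    intro m h0 h1 h2 h3
    rw [huv, hT0 m h2 h3, sub_zero, hN0 m h0 h1, add_zero]
  -- `u` normalizes `A`
  have huS : cj K V u ∈ S := cj_mem_of hfP hf hfx
  have hnorm : ∀ y ∈ Hat A, ∃ (ν : K) (i j : ℕ), ν ≠ 0 ∧
      (u : R K V) * y = (ν • ((P : R K V) ^ i * (Z : R K V) ^ j)) * u := by
    intro y hy
    have e1 : u * y * u⁻¹ ∈ Hat A := by
      rw [mem_Hat, map_mul, map_mul, map_inv]
      exact hA.2.2.2.2.2.2.2.2.2.1 _ huS _ hy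
    obtain ⟨ν, i, j, hν, e2⟩ := h.hat hA hP hZ e1
    refine ⟨ν, i, j, hν, ?_⟩
    rw [← e2, ← Units.val_mul, ← Units.val_mul, inv_mul_cancel_right]
  obtain ⟨ν, i, j, hν, huZ⟩ := hnorm Z hZ
  set Y : R K V := ν • ((P : R K V) ^ i * (Z : R K V) ^ j) with hY
  have hYm : ∀ m, Y (e m) = (ν * Heis.ch r ω m ^ j) • e (m + i) := by
    intro m
    rw [hY, LinearMap.smul_apply, h.PZ, smul_smul]
  have hUY : ∀ m, Heis.ch r ω m • (u : R K V) (e m) = Y ((u : R K V) (e m)) := by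
    intro m
    have h1 := LinearMap.congr_fun huZ (e m)
    rwa [Module.End.mul_apply, h.eZ, map_smul, Module.End.mul_apply] at h1
  have hi : ((i : ℕ) : ZMod r) = 0 := by
    obtain ⟨m, hm0, hm1, hm2, hm3⟩ := h.exists_m ((0 : ℕ) : ZMod r) ((1 : ℕ) : ZMod r) (((0 : ℕ) : ZMod r) + k)
      (((1 : ℕ) : ZMod r) + k)
    have h4 := hUY m
    rw [hum m hm0 hm1 (fun h0 => hm2 (by rw [← h0, sub_add_cancel])) (fun h0 => hm3 (by rw [← h0, sub_add_cancel])),
      hYm] at h4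
    by_contra hi
    have h5 := congrArg (fun v => e.repr v m) h4
    have h6 : m + (i : ZMod r) ≠ m := by simpa using hi
    simp only [map_smul, Basis.repr_self, Finsupp.smul_apply, Finsupp.single_eq_same,
      Finsupp.single_eq_of_ne (Ne.symm h6), smul_eq_mul, mul_one, mul_zero] at h5
    exact h.hs.ch_ne m h5
  have hYd : ∀ m, Y (e m) = (ν * Heis.ch r ω m ^ j) • e m := by
    intro m
    rw [hYm, hi, add_zero]
  have hmn : ∀ m n, e.repr ((u : R K V) (e m)) n ≠ 0 → Heis.ch r ω m = ν * Heis.ch r ω n ^ j := by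
    intro m n hne
    have h4 := congrArg (fun v => e.repr v n) (hUY m)
    simp only [map_smul, Finsupp.smul_apply, smul_eq_mul] at h4
    rw [h.hs.repr_D (d := fun m => ν * Heis.ch r ω m ^ j) hYd] at h4
    exact mul_right_cancel₀ hne h4
  have hsome : ∀ m, ∃ n, e.repr ((u : R K V) (e m)) n ≠ 0 := by
    intro m
    by_contra hcon
    push Not at hcon
    have h1 : (u : R K V) (e m) = 0 := e.repr.injective (by rw [map_zero]; exact Finsupp.ext hcon)
    exact e.ne_zero m (unit_inj u h1)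
  have h01 : ((0 : ℕ) : ZMod r) ≠ ((1 : ℕ) : ZMod r) := h.cast_ne (by norm_num) (by norm_num) (by norm_num)
  -- the contradiction if `d₀ = d₁`
  have hcontra : ν * Heis.ch r ω ((0 : ℕ) : ZMod r) ^ j = ν * Heis.ch r ω ((1 : ℕ) : ZMod r) ^ j → False := by
    intro h0
    have h1 := mul_left_cancel₀ hν h0
    rw [h.hs.ch_nat, h.hs.ch_nat, pow_zero, one_pow, pow_one] at h1
    have h2 : ∀ m, Heis.ch r ω m ^ j = 1 := fun m => by
      show (ω ^ m.val) ^ j = 1
      rw [← pow_mul, mul_comm, pow_mul, ← h1, one_pow]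
    have h3 : ∀ m, Heis.ch r ω m = ν := by
      intro m
      obtain ⟨n, hn⟩ := hsome m
      rw [hmn m n hn, h2, mul_one]
    exact h01 (h.hs.ch_inj ((h3 _).trans (h3 _).symm))
  have hNe0 : N (e ((0 : ℕ) : ZMod r)) = (c * D) • w := by rw [hNdef, tw_apply, h.B0w]
  have hNe1 : N (e ((1 : ℕ) : ZMod r)) = (c * (β.τ α * D)) • w := by rw [hNdef, tw_apply, h.B1w]
  have hk0 : k = 0 := by
    by_contra hk
    by_cases hk1 : ((0 : ℕ) : ZMod r) - k = ((1 : ℕ) : ZMod r)
    · -- `k = -1`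
      have h12 : ((1 : ℕ) : ZMod r) - k = ((2 : ℕ) : ZMod r) := by
        have : ((1 : ℕ) : ZMod r) - k = (((0 : ℕ) : ZMod r) - k) + ((1 : ℕ) : ZMod r) := by push_cast; ring
        rw [this, hk1]
        push_cast
        norm_num
      have hu1 : (u : R K V) (e ((1 : ℕ) : ZMod r)) = e ((1 : ℕ) : ZMod r) + (c * (β.τ α * D)) • w := by
        rw [huv, hT0 _ (by rw [h12]; exact h.cast_ne (by norm_num) (by norm_num) (by norm_num))
          (by rw [h12]; exact h.cast_ne (by norm_num) (by norm_num) (by norm_num)), sub_zero, hNe1]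
      have h1 : e.repr ((u : R K V) (e ((1 : ℕ) : ZMod r))) ((0 : ℕ) : ZMod r) = c * (β.τ α * D) := by
        rw [hu1, map_add, map_smul, Basis.repr_self, Finsupp.add_apply, Finsupp.smul_apply, h.repr_wv0,
          Finsupp.single_eq_of_ne h01, zero_add, smul_eq_mul, mul_one]
      have h2 : e.repr ((u : R K V) (e ((1 : ℕ) : ZMod r))) ((1 : ℕ) : ZMod r) = 1 - c * D := by
        rw [hu1, map_add, map_smul, Basis.repr_self, Finsupp.add_apply, Finsupp.smul_apply, h.repr_wv1,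
          Finsupp.single_eq_same, smul_eq_mul]
        linear_combination (c * D) * hα
      have hτα : β.τ α ≠ 0 := by simpa using hα0
      have h3 := hmn _ _ (by rw [h1]; exact mul_ne_zero hc0 (mul_ne_zero hτα hD0))
      have h4 := hmn _ _ (by rw [h2]; exact hc2)
      exact hcontra (h3.symm.trans h4)
    · have hu0 : (u : R K V) (e ((0 : ℕ) : ZMod r)) = e ((0 : ℕ) : ZMod r) + (c * D) • w := by
        rw [huv, hT0 _ (by rw [Nat.cast_zero, zero_sub]; simpa using hk) hk1, sub_zero, hNe0]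
      have h1 : e.repr ((u : R K V) (e ((0 : ℕ) : ZMod r))) ((0 : ℕ) : ZMod r) = 1 + c * D := by
        rw [hu0, map_add, map_smul, Basis.repr_self, Finsupp.add_apply, Finsupp.smul_apply, h.repr_wv0,
          Finsupp.single_eq_same, smul_eq_mul, mul_one]
      have h2 : e.repr ((u : R K V) (e ((0 : ℕ) : ZMod r))) ((1 : ℕ) : ZMod r) = c * D * α := by
        rw [hu0, map_add, map_smul, Basis.repr_self, Finsupp.add_apply, Finsupp.smul_apply, h.repr_wv1,
          Finsupp.single_eq_of_ne (Ne.symm h01), smul_eq_mul, zero_add]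
      have h3 := hmn _ _ (by rw [h1]; exact hc1)
      have h4 := hmn _ _ (by rw [h2]; exact mul_ne_zero (mul_ne_zero hc0 hD0) hα0)
      exact hcontra (h3.symm.trans h4)
  -- `k = 0`
  have hum' : ∀ n : ℕ, 2 ≤ n → n < 5 → (u : R K V) (e (n : ZMod r)) = e (n : ZMod r) := by
    intro n h2 h5
    have e0 : (n : ZMod r) ≠ ((0 : ℕ) : ZMod r) := h.cast_ne h5 (by norm_num) (by omega)
    have e1 : (n : ZMod r) ≠ ((1 : ℕ) : ZMod r) := h.cast_ne h5 (by norm_num) (by omega)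
    exact hum _ e0 e1 (by rw [hk0, sub_zero]; exact e0) (by rw [hk0, sub_zero]; exact e1)
  have hself : ∀ n : ℕ, 2 ≤ n → n < 5 → ω ^ n = ν * (ω ^ n) ^ j := by
    intro n h2 h5
    have h1 := hmn (n : ZMod r) (n : ZMod r) (by
      rw [hum' n h2 h5, Basis.repr_self, Finsupp.single_eq_same]
      exact one_ne_zero)
    rwa [h.hs.ch_nat] at h1
  have hω0 := h.hs.ω_ne
  have hj : ω ^ j = ω := by
    have h2 := hself 2 (by norm_num) (by norm_num)
    have h3 := hself 3 (by norm_num) (by norm_num)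
    have h4 : ω ^ 2 * ω ^ j = ω ^ 2 * ω := by
      calc ω ^ 2 * ω ^ j = (ν * (ω ^ 2) ^ j) * ω ^ j := by rw [← h2]
        _ = ν * (ω ^ 3) ^ j := by
          rw [← pow_mul, ← pow_mul, mul_assoc, ← pow_add]
          congr 2
          ring
        _ = ω ^ 2 * ω := by rw [← h3]; ring
    exact mul_left_cancel₀ (pow_ne_zero _ hω0) h4
  have hν1 : ν = 1 := by
    have h2 := hself 2 (by norm_num) (by norm_num)
    rw [← pow_mul, mul_comm 2 j, pow_mul, hj] at h2
    have h3 : (ν - 1) * ω ^ 2 = 0 := by linear_combination -h2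
    rcases mul_eq_zero.1 h3 with h4 | h4
    · exact sub_eq_zero.1 h4
    · exact absurd h4 (pow_ne_zero _ hω0)
  have hdiag : ∀ m n, e.repr ((u : R K V) (e m)) n ≠ 0 → m = n := by
    intro m n hne
    have h1 := hmn m n hne
    rw [hν1, one_mul] at h1
    apply h.hs.ch_inj
    rw [h1]
    show (ω ^ n.val) ^ j = ω ^ n.val
    rw [← pow_mul, mul_comm, pow_mul, hj]
  have hus : ∀ m, ∃ s : K, (u : R K V) (e m) = s • e m := by
    intro m
    refine ⟨e.repr ((u : R K V) (e m)) m, e.repr.injective (Finsupp.ext fun n => ?_)⟩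
    rw [map_smul, Basis.repr_self, Finsupp.smul_apply, Finsupp.single_apply]
    by_cases hmn' : m = n
    · rw [if_pos hmn', ← hmn', smul_eq_mul, mul_one]
    · rw [if_neg hmn', smul_zero]
      by_contra h0
      exact hmn' (hdiag m n h0)
  choose s hs using hus
  obtain ⟨ν', i', j', hν', huP⟩ := hnorm P hP
  have hUP : ∀ m, s (m + 1) • e (m + 1) = (ν' * s m * Heis.ch r ω m ^ j') • e (m + i') := by
    intro m
    have h1 := LinearMap.congr_fun huP (e m)
    rw [Module.End.mul_apply, h.eP, hs, Module.End.mul_apply, hs, map_smul, LinearMap.smul_apply, h.PZ, smul_smul,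
      smul_smul] at h1
    rw [h1]
    congr 1
    ring
  have hi' : ((i' : ℕ) : ZMod r) = 1 := by
    have h1 := hUP ((2 : ℕ) : ZMod r)
    have h3 : s (((2 : ℕ) : ZMod r) + 1) = 1 := by
      have h4 := hs (((2 : ℕ) : ZMod r) + 1)
      have h5 : ((2 : ℕ) : ZMod r) + 1 = ((3 : ℕ) : ZMod r) := by push_cast; norm_num
      rw [h5, hum' 3 (by norm_num) (by norm_num)] at h4
      rw [h5]
      have h6 : (s ((3 : ℕ) : ZMod r) - 1) • e ((3 : ℕ) : ZMod r) = 0 := by rw [sub_smul, ← h4, one_smul, sub_self]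
      rcases smul_eq_zero.1 h6 with h7 | h7
      · exact sub_eq_zero.1 h7
      · exact absurd h7 (e.ne_zero _)
    rw [h3, one_smul] at h1
    by_contra hne
    have h4 := congrArg (fun v => e.repr v (((2 : ℕ) : ZMod r) + 1)) h1
    have h5 : ((2 : ℕ) : ZMod r) + 1 ≠ ((2 : ℕ) : ZMod r) + (i' : ZMod r) := fun h0 => hne (add_left_cancel h0).symm
    simp only [map_smul, Basis.repr_self, Finsupp.smul_apply, Finsupp.single_eq_same,
      Finsupp.single_eq_of_ne h5, smul_eq_mul, mul_zero] at h4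
    exact one_ne_zero h4
  have hss : ∀ m, s (m + 1) = ν' * s m * Heis.ch r ω m ^ j' := by
    intro m
    have h1 := hUP m
    rw [hi'] at h1
    exact smul_left_injective K (e.ne_zero (m + 1)) h1
  have hs1 : ∀ n : ℕ, 2 ≤ n → n < 5 → s (n : ZMod r) = 1 := by
    intro n h2 h5
    have h4 := hs (n : ZMod r)
    rw [hum' n h2 h5] at h4
    have h6 : (s (n : ZMod r) - 1) • e (n : ZMod r) = 0 := by rw [sub_smul, ← h4, one_smul, sub_self]
    rcases smul_eq_zero.1 h6 with h7 | h7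
    · exact sub_eq_zero.1 h7
    · exact absurd h7 (e.ne_zero _)
  have hA2 : 1 = ν' * (ω ^ 2) ^ j' := by
    have h1 := hss ((2 : ℕ) : ZMod r)
    have h5 : ((2 : ℕ) : ZMod r) + 1 = ((3 : ℕ) : ZMod r) := by push_cast; norm_num
    rwa [h5, hs1 3 (by norm_num) (by norm_num), hs1 2 (by norm_num) (by norm_num), h.hs.ch_nat, mul_one] at h1
  have hA3 : 1 = ν' * (ω ^ 3) ^ j' := by
    have h1 := hss ((3 : ℕ) : ZMod r)
    have h5 : ((3 : ℕ) : ZMod r) + 1 = ((4 : ℕ) : ZMod r) := by push_cast; norm_num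
    rwa [h5, hs1 4 (by norm_num) (by norm_num), hs1 3 (by norm_num) (by norm_num), h.hs.ch_nat, mul_one] at h1
  have hj' : ω ^ j' = 1 := by
    have h4 : (1 : K) * ω ^ j' = 1 := by
      calc (1 : K) * ω ^ j' = (ν' * (ω ^ 2) ^ j') * ω ^ j' := by rw [← hA2]
        _ = ν' * (ω ^ 3) ^ j' := by
          rw [← pow_mul, ← pow_mul, mul_assoc, ← pow_add]
          congr 2
          ring
        _ = 1 := hA3.symm
    rwa [one_mul] at h4
  have hν'1 : ν' = 1 := by
    rw [← pow_mul, mul_comm 2 j', pow_mul, hj', one_pow, mul_one] at hA2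
    exact hA2.symm
  have hss' : ∀ m, s (m + 1) = s m := by
    intro m
    rw [hss, hν'1, one_mul]
    have : Heis.ch r ω m ^ j' = 1 := by
      show (ω ^ m.val) ^ j' = 1
      rw [← pow_mul, mul_comm, pow_mul, hj', one_pow]
    rw [this, mul_one]
  have hsall : ∀ n : ℕ, s (n : ZMod r) = s ((0 : ℕ) : ZMod r) := by
    intro n
    induction n with
    | zero => rfl
    | succ n ih => rw [Nat.cast_succ, hss', ih]
  have hsone : ∀ m, s m = 1 := by
    intro m
    have h1 := hsall m.val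
    rw [ZMod.natCast_zmod_val] at h1
    rw [h1, ← hsall 2, hs1 2 (by norm_num) (by norm_num)]
  have hu1 : (u : R K V) = 1 := by
    refine e.ext fun m => ?_
    rw [hs, hsone, one_smul]
    rfl
  have hu2 : u = 1 := Units.ext hu1
  have hu3 : x = fu hfP x := by
    rw [hu] at hu2
    exact mul_inv_eq_one.1 hu2
  have hu4 : (x : R K V) = f (x : R K V) := congrArg Units.val hu3
  rw [hx, uN_val, hfP.1, RP_map_one hfP] at hu4
  exact (add_left_cancel hu4).symm

end HF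

end Cfsg.Agent.H563.FC
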