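import Cfsg.Agent.H563.FC.Spe
import Cfsg.Agent.H710.FC.COdd
import Cfsg.Agent.H412.FC.BBridge
import Cfsg.Agent.H786.FC.Parts

/-!
# S5764: extraspecial type normalizers, unitary, `n = r` prime: the Heisenberg pair and the form (helper563)
-/

set_option autoImplicit false

namespace Cfsg.Agent.H563.FC

open Module Cfsg.Agent.H198.FC Cfsg.Agent.H277.FC Cfsg.Agent.H706.FC
open Cfsg.Agent.H710.FC (Heis)

universe u v

variable {K : Type u} [Field K] {V : Type v} [AddCommGroup V] [Module K V] {β : Cl K V}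

/-- a unit with `cj y ∈ RB β` is a similitude -/
theorem exists_mu [Nontrivial V] {y : (R K V)ˣ} (hy : cj K V y ∈ RB β) :
    ∃ μ : K, ∀ v w, β.B ((y : R K V) v) ((y : R K V) w) = μ * β.B v w := by
  obtain ⟨μ, hμ⟩ := Cfsg.Agent.H412.FC.isSim_of_adj β hy.2
    (g := (Cfsg.Agent.H200.FC.ofU y).toEquiv) (σ := RingEquiv.refl K)
    (fun v w => map_add (Cfsg.Agent.H200.FC.ofU y) v w) (fun a v => map_smul (Cfsg.Agent.H200.FC.ofU y) a v)
    (fun X v => by
      show (cj K V y X) ((y : R K V) v) = (y : R K V) (X v)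
      rw [cj_apply, ← Module.End.mul_apply, mul_assoc, mul_assoc, Units.inv_mul, mul_one, Module.End.mul_apply])
  exact ⟨μ, fun v w => hμ.form v w⟩

theorem mu_fix [Nontrivial V] (hU : β.IsU) {y : (R K V)ˣ} {μ : K}
    (hμ : ∀ v w, β.B ((y : R K V) v) ((y : R K V) w) = μ * β.B v w) : β.τ μ = μ := by
  obtain ⟨w, hw⟩ := exists_ne (0 : V)
  obtain ⟨v, hv⟩ := exists_left (b := β) hw
  have h1 := hU.2 ((y : R K V) v) ((y : R K V) w)
  rw [hμ, hμ, map_mul, ← hU.2 v w] at h1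
  exact (mul_right_cancel₀ hv h1).symm

theorem mu_pow {y : (R K V)ˣ} {μ : K} (hμ : ∀ v w, β.B ((y : R K V) v) ((y : R K V) w) = μ * β.B v w) (k : ℕ) (v w : V) :
    β.B (((y : R K V) ^ k) v) (((y : R K V) ^ k) w) = μ ^ k * β.B v w := by
  induction k with
  | zero => simp
  | succ k ih =>
    rw [pow_succ', Module.End.mul_apply, Module.End.mul_apply, hμ, ih, pow_succ']
    ring

section heis

variable {r : ℕ} {ω : K} {P Z : (R K V)ˣ}

/-- the form and a Heisenberg pair -/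
structure HF (β : Cl K V) (r : ℕ) (ω : K) (P Z : (R K V)ˣ) (e : Basis (ZMod r) K V) : Prop where
  hs : Heis r ω P Z
  five : 5 ≤ r
  unit : β.IsU
  eZ : ∀ i, (Z : R K V) (e i) = Heis.ch r ω i • e i
  eP : ∀ i, (P : R K V) (e i) = e (i + 1)
  om : ω * β.τ ω = 1
  isoP : ∀ v w, β.B ((P : R K V) v) ((P : R K V) w) = β.B v w
  isoZ : ∀ v w, β.B ((Z : R K V) v) ((Z : R K V) w) = β.B v w

theorem exists_HF [Module.Finite K V] (h : Heis r ω P Z) (h5 : 5 ≤ r) (hU : β.IsU) (hP : cj K V P ∈ RB β)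
    (hZ : cj K V Z ∈ RB β) : ∃ e : Basis (ZMod r) K V, HF β r ω P Z e := by
  have hnt : Nontrivial V := by
    apply Module.nontrivial_of_finrank_pos (R := K)
    rw [h.rank]; exact h.hr.pos
  obtain ⟨e, heZ, heP⟩ := h.exists_basis
  obtain ⟨μ, hμ⟩ := exists_mu hP
  obtain ⟨ν, hν⟩ := exists_mu hZ
  obtain ⟨w₀, hw₀⟩ := exists_ne (0 : V)
  obtain ⟨v₀, hv₀⟩ := exists_right (b := β) hw₀
  have hμr : μ ^ r = 1 := by
    have h1 := mu_pow hμ r v₀ w₀
    rw [h.Pr'] at h1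
    have h2 : μ ^ r * β.B v₀ w₀ = 1 * β.B v₀ w₀ := by rw [one_mul]; exact h1.symm
    exact mul_right_cancel₀ hv₀ h2
  have hνr : ν ^ r = 1 := by
    have h1 := mu_pow hν r v₀ w₀
    rw [h.Zr'] at h1
    have h2 : ν ^ r * β.B v₀ w₀ = 1 * β.B v₀ w₀ := by rw [one_mul]; exact h1.symm
    exact mul_right_cancel₀ hv₀ h2
  have hμ0 : μ ≠ 0 := by
    rintro rfl
    rw [zero_pow h.hr.ne_zero] at hμr
    exact zero_ne_one hμr
  have hν0 : ν ≠ 0 := by
    rintro rfl
    rw [zero_pow h.hr.ne_zero] at hνr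
    exact zero_ne_one hνr
  have hom : ω * β.τ ω = 1 := by
    have h1 : β.B ((Z : R K V) ((P : R K V) v₀)) ((Z : R K V) ((P : R K V) w₀)) = ν * (μ * β.B v₀ w₀) := by
      rw [hν, hμ]
    rw [h.ZP, h.ZP, β.smul_left, β.smul_right, hμ, hν] at h1
    have h2 : (ω * β.τ ω) * (ν * (μ * β.B v₀ w₀)) = 1 * (ν * (μ * β.B v₀ w₀)) := by
      linear_combination h1
    exact mul_right_cancel₀ (mul_ne_zero hν0 (mul_ne_zero hμ0 hv₀)) h2
  have key : ∀ {t : K}, t ^ r = 1 → β.τ t = t → t = 1 := by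
    intro t ht htτ
    have : NeZero r := ⟨h.hr.ne_zero⟩
    obtain ⟨k, -, hk⟩ := h.prim.eq_pow_of_pow_eq_one ht
    have h1 : t * t = 1 := by
      nth_rewrite 2 [← htτ]
      rw [← hk, map_pow, ← mul_pow, hom, one_pow]
    obtain ⟨m, hm⟩ := h.hr.even_sub_one h.odd
    have h2 : r = 2 * m + 1 := by have := h.hr.one_lt; omega
    rw [h2, pow_succ, pow_mul, pow_two, h1, one_pow, one_mul] at ht
    exact ht
  have e1 := key hμr (mu_fix hU hμ)
  have e2 := key hνr (mu_fix hU hν)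
  subst e1 e2
  exact ⟨e, h, h5, hU, heZ, heP, hom, fun v w => by rw [hμ, one_mul], fun v w => by rw [hν, one_mul]⟩

variable {e : Basis (ZMod r) K V}

namespace HF

variable (h : HF β r ω P Z e)

include h

theorem ne : NeZero r := ⟨h.hs.hr.ne_zero⟩

theorem tau_ne : β.τ ω ≠ ω := by
  intro h1
  have h2 := h.om
  rw [h1, ← pow_two] at h2
  have h3 := h.hs.prim.dvd_of_pow_eq_one 2 h2
  have h4 := Nat.le_of_dvd (by norm_num) h3
  have := h.five
  omega

theorem ch_inv (i : ZMod r) : Heis.ch r ω i * β.τ (Heis.ch r ω i) = 1 := by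
  show ω ^ i.val * β.τ (ω ^ i.val) = 1
  rw [map_pow, ← mul_pow, h.om, one_pow]

/-- the basis is orthogonal -/
theorem orth {i j : ZMod r} (hij : i ≠ j) : β.B (e i) (e j) = 0 := by
  have h1 := h.isoZ (e i) (e j)
  rw [h.eZ, h.eZ, β.smul_left, β.smul_right, ← mul_assoc] at h1
  have h2 : (Heis.ch r ω i * β.τ (Heis.ch r ω j) - 1) * β.B (e i) (e j) = 0 := by
    rw [sub_mul, h1, one_mul, sub_self]
  rcases mul_eq_zero.1 h2 with h3 | h3
  · exfalso
    apply hij
    apply h.hs.ch_inj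
    have h4 := h.ch_inv j
    have h5 : Heis.ch r ω i * β.τ (Heis.ch r ω j) = Heis.ch r ω j * β.τ (Heis.ch r ω j) := by
      rw [h4]; exact sub_eq_zero.1 h3
    exact mul_right_cancel₀ (right_ne_zero_of_mul_eq_one h4) h5
  · exact h3

theorem diag (i : ZMod r) : β.B (e i) (e i) = β.B (e 0) (e 0) := by
  have := h.ne
  have h1 : ∀ n : ℕ, β.B (e (n : ZMod r)) (e (n : ZMod r)) = β.B (e 0) (e 0) := by
    intro n
    induction n with
    | zero => rw [Nat.cast_zero]
    | succ n ih => rw [Nat.cast_succ, ← h.eP, h.isoP, ih]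
  have h2 := h1 i.val
  rwa [ZMod.natCast_zmod_val] at h2

theorem B_repr (v : V) (j : ZMod r) : β.B v (e j) = e.repr v j * β.B (e 0) (e 0) := by
  have := h.ne
  have h1 : ∀ (s : Finset (ZMod r)), β.B (∑ i ∈ s, e.repr v i • e i) (e j) = ∑ i ∈ s, e.repr v i * β.B (e i) (e j) := by
    intro s
    induction s using Finset.induction_on with
    | empty => rw [Finset.sum_empty, Finset.sum_empty, B_zero_left]
    | insert i s hi ih => rw [Finset.sum_insert hi, Finset.sum_insert hi, β.add_left, β.smul_left, ih]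
  have h2 := h1 Finset.univ
  rw [e.sum_repr] at h2
  rw [h2, Finset.sum_eq_single j]
  · rw [h.diag j]
  · intro i _ hij
    rw [h.orth hij, mul_zero]
  · intro hj
    exact absurd (Finset.mem_univ j) hj

theorem D_ne : β.B (e 0) (e 0) ≠ 0 := by
  intro h0
  obtain ⟨v, hv⟩ := exists_right (b := β) (e.ne_zero 0)
  rw [h.B_repr v 0, h0, mul_zero] at hv
  exact hv rfl

theorem D_fix : β.τ (β.B (e 0) (e 0)) = β.B (e 0) (e 0) := (h.unit.2 _ _).symm

end HF

end heis

end Cfsg.Agent.H563.FC
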