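import Cfsg.Agent.H563.FC.Rank
import Cfsg.Agent.H706.FC.Tv

/-!
# S5764: the field automorphism of an element of `RP` (helper563)
-/

set_option autoImplicit false

namespace Cfsg.Agent.H563.FC

open Cfsg.Agent.H198.FC Cfsg.Agent.H277.FC

universe u v

variable {K : Type u} [Field K] {V : Type v} [AddCommGroup V] [Module K V]

/-- `f` acts on the homotheties as `σ` -/
def HasSig (f : Equiv.Perm (R K V)) (σ : K ≃+* K) : Prop := ∀ a : K, f (a • 1) = σ a • 1

theorem exists_sig [Nontrivial V] {f : Equiv.Perm (R K V)} (hf : f ∈ RP K V) : ∃ σ : K ≃+* K, HasSig f σ := by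
  let F : Module.End K V ≃+* Module.End K V :=
    { f with
      map_mul' := hf.2
      map_add' := hf.1 }
  obtain ⟨σ, hσ⟩ := exists_sigma F
  exact ⟨σ, hσ⟩

theorem HasSig.smul {f : Equiv.Perm (R K V)} (hf : f ∈ RP K V) {σ : K ≃+* K} (h : HasSig f σ) (a : K) (X : R K V) :
    f (a • X) = σ a • f X := by
  have h1 : a • X = (a • (1 : R K V)) * X := by rw [smul_mul_assoc, one_mul]
  rw [h1, hf.2, h, smul_mul_assoc, one_mul]

theorem HasSig.mul {f g : Equiv.Perm (R K V)} (hf : f ∈ RP K V) {σ ρ : K ≃+* K} (h : HasSig f σ) (h' : HasSig g ρ) :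
    HasSig (f * g) (ρ.trans σ) := by
  intro a
  show f (g (a • 1)) = σ (ρ a) • 1
  rw [h', h]

theorem HasSig.inv {f : Equiv.Perm (R K V)} {σ : K ≃+* K} (h : HasSig f σ) : HasSig f⁻¹ σ.symm := by
  intro a
  apply f.injective
  rw [h, RingEquiv.apply_symm_apply]
  exact f.apply_symm_apply _

theorem HasSig.unique [Nontrivial V] {f : Equiv.Perm (R K V)} {σ ρ : K ≃+* K} (h : HasSig f σ) (h' : HasSig f ρ) :
    σ = ρ := by
  ext a
  exact smul_one_inj ((h a).symm.trans (h' a))

/-- `f` is induced by a `σ`-semilinear bijection -/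
theorem HasSig.semi [Module.Finite K V] [Nontrivial V] {f : Equiv.Perm (R K V)} (hf : f ∈ RP K V) {σ : K ≃+* K}
    (h : HasSig f σ) : ∃ g : Equiv.Perm V, (∀ v w, g (v + w) = g v + g w) ∧ (∀ (a : K) (v : V), g (a • v) = σ a • g v) ∧
      ∀ (X : R K V) (v : V), f X (g v) = g (X v) := by
  obtain ⟨g, ⟨hadd, ρ, hρ⟩, hg⟩ := stmtSN K V Module.finrank_pos f hf
  refine ⟨g, hadd, fun a v => ?_, hg⟩
  have h1 := hg (a • 1) v
  rw [h a] at h1
  exact h1.symm

/-- `f` is inner if `σ = 1` -/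
theorem HasSig.inner [Module.Finite K V] [Nontrivial V] {f : Equiv.Perm (R K V)} (hf : f ∈ RP K V) {σ : K ≃+* K}
    (h : HasSig f σ) (h1 : ∀ a, σ a = a) : ∃ y : (R K V)ˣ, cj K V y = f := by
  obtain ⟨g, hadd, hsm, hg⟩ := h.semi hf
  let G : V ≃ₗ[K] V :=
    { g with
      map_add' := hadd
      map_smul' := fun a v => by
        show g (a • v) = a • g v
        rw [hsm, h1] }
  let y : (R K V)ˣ :=
    { val := (G : V →ₗ[K] V)
      inv := (G.symm : V →ₗ[K] V)
      val_inv := by
        ext v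
        exact G.apply_symm_apply v
      inv_val := by
        ext v
        exact G.symm_apply_apply v }
  refine ⟨y, ?_⟩
  apply Equiv.ext
  intro X
  ext v
  obtain ⟨w, rfl⟩ := g.surjective v
  rw [hg]
  show g (X (G.symm (g w))) = g (X w)
  have : G.symm (g w) = w := G.symm_apply_apply w
  rw [this]

section dat

variable {S A : Subgroup (Equiv.Perm (R K V))} {r a : ℕ}

/-- an element of `RP` with `σ = 1` which centralizes `A` lies in `A` -/
theorem HasSig.mem_A (h : C6Data S A r a) {f : Equiv.Perm (R K V)} (hf : f ∈ RP K V) {σ : K ≃+* K}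
    (hs : HasSig f σ) (h1 : ∀ a, σ a = a) (hc : ∀ c ∈ A, f * c = c * f) : f ∈ A := by
  have := nontrivial_of h
  have := finite_of h
  obtain ⟨y, hy⟩ := hs.inner hf h1
  rw [← hy] at hc ⊢
  exact mem_of_comm h hc

/-- at most `|A|` elements centralizing `A` have the same field automorphism -/
theorem card_sig_le [Finite K] (h : C6Data S A r a) (σ : K ≃+* K) :
    Nat.card {f : Equiv.Perm (R K V) // f ∈ RP K V ∧ HasSig f σ ∧ ∀ c ∈ A, f * c = c * f} ≤ Nat.card A := by
  have := nontrivial_of h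
  have := finite_of h
  have hfin : Finite (R K V) := by
    have : Module.Finite K (R K V) := inferInstance
    exact Module.finite_of_finite K
  by_cases hne : Nonempty {f : Equiv.Perm (R K V) // f ∈ RP K V ∧ HasSig f σ ∧ ∀ c ∈ A, f * c = c * f}
  · obtain ⟨f₀⟩ := hne
    refine Nat.card_le_card_of_injective (fun f => (⟨f.1 * f₀.1⁻¹, ?_⟩ : A)) ?_
    · refine HasSig.mem_A h (mul_mem f.2.1 (inv_mem f₀.2.1)) (HasSig.mul f.2.1 f.2.2.1 f₀.2.2.1.inv) (fun a => ?_)
        (fun c hc => ?_)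
      · exact σ.apply_symm_apply a
      · have h1 := f.2.2.2 c hc
        have h2 := f₀.2.2.2 c hc
        have h3 : f₀.1⁻¹ * c = c * f₀.1⁻¹ := by
          rw [inv_mul_eq_iff_eq_mul, ← mul_assoc, h2, mul_inv_cancel_right]
        rw [mul_assoc, h3, ← mul_assoc, h1, mul_assoc]
    · intro f f' hff
      have h1 : f.1 * f₀.1⁻¹ = f'.1 * f₀.1⁻¹ := congrArg Subtype.val hff
      exact Subtype.ext (mul_right_cancel h1)
  · rw [not_nonempty_iff] at hne
    rw [Nat.card_of_isEmpty]
    exact Nat.zero_le _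

end dat

/-! ### fixed points of semilinear maps -/

/-- an eigenspace of a properly semilinear bijection has at most `|V|^(1/2)` elements -/
theorem semi_fix [Finite V] {g : V → V} {σ : K ≃+* K} (hadd : ∀ v w, g (v + w) = g v + g w)
    (hsm : ∀ (a : K) (v : V), g (a • v) = σ a • g v) {t : K} (ht : σ t ≠ t) {μ : K} (hμ : μ ≠ 0) :
    Nat.card {v : V // g v = μ • v} * Nat.card {v : V // g v = μ • v} ≤ Nat.card V := by
  rw [← Nat.card_prod]
  have hsub : ∀ v w : V, g (v - w) = g v - g w := by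
    intro v w
    have h1 := hadd (v - w) w
    rw [sub_add_cancel] at h1
    rw [h1, add_sub_cancel_right]
  refine Nat.card_le_card_of_injective (fun p => (p.1 : V) + t • (p.2 : V)) ?_
  rintro ⟨⟨u, hu⟩, ⟨u', hu'⟩⟩ ⟨⟨v, hv⟩, ⟨v', hv'⟩⟩ h
  have h1 : u + t • u' = v + t • v' := h
  have h2 : t • (v' - u') = u - v := by
    rw [smul_sub, sub_eq_sub_iff_add_eq_add, add_comm, ← h1, add_comm]
  have h3 : g (v' - u') = μ • (v' - u') := by rw [hsub, hu', hv', smul_sub]
  have h4 : g (u - v) = μ • (u - v) := by rw [hsub, hu, hv, smul_sub]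
  rw [← h2, hsm, h3, smul_smul, smul_smul, ← sub_eq_zero, ← sub_smul] at h4
  have h5 : v' - u' = 0 := by
    rcases smul_eq_zero.1 h4 with h6 | h6
    · exfalso
      have h7 : μ * (σ t - t) = 0 := by rw [← h6]; ring
      rcases mul_eq_zero.1 h7 with h8 | h8
      · exact hμ h8
      · exact ht (sub_eq_zero.1 h8)
    · exact h6
  rw [h5, smul_zero] at h2
  have h6 : u = v := sub_eq_zero.1 h2.symm
  have h7 : u' = v' := (sub_eq_zero.1 h5).symm
  subst h6 h7
  rfl

end Cfsg.Agent.H563.FC
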