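import Cfsg.Agent.H563.FC.Spe
import Cfsg.Agent.H563.FC.Cnt
import Cfsg.Agent.H786.FC.Parts

/-!
# S5764: extraspecial type normalizers, unitary, `n = 8` (helper563)
-/

set_option autoImplicit false

namespace Cfsg.Agent.H563.FC

open Cfsg.Agent.H198.FC Cfsg.Agent.H277.FC Cfsg.Agent.H706.FC

universe u v

variable {K : Type u} [Field K] {V : Type v} [AddCommGroup V] [Module K V] {b : Cl K V}

/-- if `f (tw b 1 w)` is proportional to `tw b 1 w` then `w` is an eigenvector of the semilinear map -/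
theorem eig_of_tw {f : Equiv.Perm (R K V)} {g : Equiv.Perm V} {σ : K ≃+* K} (hadd : ∀ v w, g (v + w) = g v + g w)
    (hsm : ∀ (a : K) (v : V), g (a • v) = σ a • g v) (hg : ∀ (X : R K V) (v : V), f X (g v) = g (X v)) {w : V}
    (hw : w ≠ 0) {k : K} (hk : f (tw b 1 w) = k • tw b 1 w) : ∃ l : K, g w = l • w := by
  obtain ⟨v, hv⟩ := exists_right (b := b) hw
  have h1 := hg (tw b 1 w) v
  rw [hk, LinearMap.smul_apply, tw_apply, tw_apply, one_mul, one_mul, hsm, smul_smul] at h1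
  have h2 : σ (b.B v w) ≠ 0 := by simpa using hv
  refine ⟨(σ (b.B v w))⁻¹ * (k * b.B (g v) w), ?_⟩
  rw [mul_smul, h1, smul_smul, inv_mul_cancel₀ h2, one_smul]

section main

variable [Finite K] [Module.Finite K V] {S A : Subgroup (Equiv.Perm (R K V))}

/-- counting: a good isotropic vector, `r = 2`, `n = 2 m` -/
theorem exists_good (hU : b.IsU) {a m : ℕ} (h : C6Data S A 2 a) (h2 : (2 : K) ≠ 0) (hm : Module.finrank K V = 2 * m)
    (hm3 : 3 ≤ 2 * m)
    (hnum : ∀ q : ℕ, Nat.card (K0 b.τ) = q → 2 * (Nat.card A * q ^ (2 * m)) + Nat.card A * q ^ (2 * m) < q ^ (4 * m - 3)) :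
    ∃ w : V, w ≠ 0 ∧ b.B w w = 0 ∧ (∀ y ∈ Hat A, (∃ l : K, (y : R K V) w = l • w) → Scal y) ∧
      (∀ f ∈ RP K V, (∀ c ∈ A, f * c = c * f) → HasSig f b.τ → ∀ k : K, f (tw b 1 w) ≠ k • tw b 1 w) := by
  classical
  have := nontrivial_of h
  have hfinV : Finite V := Module.finite_of_finite K
  have hfinR := finite_R (K := K) (V := V)
  obtain ⟨ε, hε⟩ := hU.1
  obtain ⟨X, hX1, hX2, hX3⟩ := exists_family hU h2 (by omega)
  set q := Nat.card (K0 b.τ) with hq
  have hKq : Nat.card K = q ^ 2 := card_K b.invol hε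
  have hVq : Nat.card V = q ^ (4 * m) := by
    rw [Module.natCard_eq_pow_finrank (K := K), hKq, hm, ← pow_mul]
    congr 1
    ring
  have hq0 : 0 < q := Nat.card_pos
  have hXq : Nat.card X = q ^ (4 * m - 3) := by
    have h4 : Nat.card X * q ^ 4 = q ^ (4 * m - 3) * q ^ 4 := by
      rw [hKq, hVq, ← pow_mul] at hX3
      rw [hX3, ← pow_succ, ← pow_add]
      congr 1
      omega
    exact Nat.eq_of_mul_eq_mul_right (pow_pos hq0 4) h4
  by_contra hcon
  push Not at hcon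
  -- lifts
  have hlift : ∀ f : A, ∃ x : (R K V)ˣ, cj K V x = f := fun f => h.2.2.2.2.1 f.2
  choose s hs using hlift
  let C := {f : Equiv.Perm (R K V) // f ∈ RP K V ∧ HasSig f b.τ ∧ ∀ c ∈ A, f * c = c * f}
  have hsemi : ∀ f : C, ∃ g : Equiv.Perm V, (∀ v w, g (v + w) = g v + g w) ∧
      (∀ (a : K) (v : V), g (a • v) = b.τ a • g v) ∧ ∀ (X : R K V) (v : V), f.1 X (g v) = g (X v) :=
    fun f => f.2.2.1.semi f.2.1
  choose g hgadd hgsm hg using hsemi
  let B1 : {f : A // f ≠ 1} → Type _ := fun f => {w : V // w ≠ 0 ∧ ∃ l : K, ((s f.1 : (R K V)ˣ) : R K V) w = l • w}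
  let B2 : C → Type _ := fun f => {w : V // w ∈ X ∧ ∃ l : K, g f w = l • w}
  -- every element of `X` is bad
  have hbad : ∀ w : X, (∃ f : {f : A // f ≠ 1}, ∃ l : K, ((s f.1 : (R K V)ˣ) : R K V) (w : V) = l • (w : V)) ∨
      ∃ f : C, ∃ l : K, g f w = l • (w : V) := by
    intro w
    obtain ⟨hw0, hww⟩ := hX1 w w.2
    by_cases h1 : ∀ y ∈ Hat A, (∃ l : K, (y : R K V) (w : V) = l • (w : V)) → Scal y
    · right
      obtain ⟨f, hf, hfc, hfs, k, hk⟩ := hcon w hw0 hww h1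
      exact ⟨⟨f, hf, hfs, hfc⟩, eig_of_tw (hgadd _) (hgsm _) (hg ⟨f, hf, hfs, hfc⟩) hw0 hk⟩
    · left
      push Not at h1
      obtain ⟨y, hy, ⟨l, hl⟩, hns⟩ := h1
      refine ⟨⟨⟨cj K V y, hy⟩, fun h1 => hns (scal_of_cj (congrArg Subtype.val h1))⟩, ?_⟩
      obtain ⟨c, hc0, hc⟩ := cj_eq (hs ⟨cj K V y, hy⟩)
      exact ⟨c * l, by rw [hc, LinearMap.smul_apply, hl, smul_smul]⟩
  let Φ : X → (Σ f : {f : A // f ≠ 1}, B1 f) ⊕ (Σ f : C, B2 f) := fun w =>
    if h : ∃ f : {f : A // f ≠ 1}, ∃ l : K, ((s f.1 : (R K V)ˣ) : R K V) (w : V) = l • (w : V)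
    then Sum.inl ⟨h.choose, ⟨w, (hX1 w w.2).1, h.choose_spec⟩⟩
    else Sum.inr ⟨((hbad w).resolve_left h).choose, ⟨w, w.2, ((hbad w).resolve_left h).choose_spec⟩⟩
  let Ψ : (Σ f : {f : A // f ≠ 1}, B1 f) ⊕ (Σ f : C, B2 f) → V := Sum.elim (fun p => (p.2 : V)) fun p => (p.2 : V)
  have hΨ : ∀ w, Ψ (Φ w) = w := by
    intro w
    simp only [Φ]
    split_ifs with h1
    · rfl
    · rfl
  have hinj : Function.Injective Φ := fun w w' hww => Subtype.ext (by rw [← hΨ w, ← hΨ w', hww])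
  have hfinA : Finite A := Nat.finite_of_card_ne_zero (by
    rw [h.2.2.2.2.2.1]; exact pow_ne_zero _ h.1.ne_zero)
  have := Fintype.ofFinite {f : A // f ≠ 1}
  have hCfin : Finite C := inferInstance
  have := Fintype.ofFinite C
  have h4 := Nat.card_le_card_of_injective Φ hinj
  rw [Nat.card_sum, Nat.card_sigma, Nat.card_sigma] at h4
  have hB1 : ∑ f, Nat.card (B1 f) ≤ 2 * (Nat.card A * q ^ (2 * m)) := by
    have h5 : ∀ f : {f : A // f ≠ 1}, Nat.card (B1 f) ≤ 2 * q ^ (2 * m) := by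
      intro f
      have hmem : s f.1 ∈ Hat A := by rw [mem_Hat, hs]; exact f.1.2
      have hns : ¬ Scal (s f.1) := fun h6 => f.2 (Subtype.ext (by rw [← hs]; exact cj_of_scal h6))
      obtain ⟨c, hc⟩ := pow_scal h hmem
      rw [Units.val_pow_eq_pow_val, pow_two] at hc
      have h6 := card_eig_le (s f.1 : R K V) hc (k := m) (fun l => by
        have := eig_le h hmem hns l
        omega)
      rw [hKq, ← pow_mul] at h6
      exact h6
    refine (Finset.sum_le_card_nsmul _ _ _ fun f _ => h5 f).trans ?_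
    rw [Finset.card_univ, smul_eq_mul, ← Nat.card_eq_fintype_card]
    have h6 : Nat.card {f : A // f ≠ 1} ≤ Nat.card A := Nat.card_le_card_of_injective _ Subtype.val_injective
    calc _ ≤ Nat.card A * (2 * q ^ (2 * m)) := Nat.mul_le_mul_right _ h6
      _ = _ := by ring
  have hB2 : ∑ f, Nat.card (B2 f) ≤ Nat.card A * q ^ (2 * m) := by
    have h5 : ∀ f : C, Nat.card (B2 f) ≤ q ^ (2 * m) := by
      intro f
      refine card_pts_le (hgadd f) (hgsm f) hε (fun w hw => (hX1 w hw).1) hX2 (le_of_eq ?_)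
      rw [hVq, ← pow_add]
      congr 1
      ring
    refine (Finset.sum_le_card_nsmul _ _ _ fun f _ => h5 f).trans ?_
    rw [Finset.card_univ, smul_eq_mul, ← Nat.card_eq_fintype_card]
    exact Nat.mul_le_mul_right _ (card_sig_le h b.τ)
  have h7 := hnum q rfl
  omega

omit [Finite K] [Module.Finite K V] in
theorem two_ne_zero_of {a : ℕ} (h : C6Data S A 2 a) : (2 : K) ≠ 0 := by
  have := nontrivial_of h
  obtain ⟨f, hf, hf1⟩ : ∃ f ∈ A, f ≠ 1 := by
    by_contra hcon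
    push Not at hcon
    have h1 : A = ⊥ := by
      rw [eq_bot_iff]
      intro f hf
      exact Subgroup.mem_bot.2 (hcon f hf)
    have h2 := h.2.2.2.2.2.1
    rw [h1, Subgroup.card_bot] at h2
    have h3 : 1 < 2 ^ (2 * a) := Nat.one_lt_pow (by have := h.2.1; omega) (by norm_num)
    omega
  obtain ⟨x, rfl⟩ := h.2.2.2.2.1 hf
  obtain ⟨y, hy, c, hc1, hc2, -⟩ := exists_conj h (x := x) hf fun hs => hf1 (cj_of_scal hs)
  intro h2
  apply hc1
  have h3 : (c - 1) * (c - 1) = 0 := by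
    have : (c - 1) * (c - 1) = c ^ 2 - 2 * c + 1 := by ring
    rw [this, hc2, h2]
    have h4 : (1 : K) + 1 = 0 := by rw [one_add_one_eq_two, h2]
    rw [zero_mul, sub_zero, h4]
  exact sub_eq_zero.1 (mul_self_eq_zero.1 h3)

omit [Module.Finite K V] in
theorem three_le_card (h2 : (2 : K) ≠ 0) : 3 ≤ Nat.card (K0 b.τ) := by
  have hinj : Function.Injective (![(0 : K0 b.τ), 1, 2] : Fin 3 → K0 b.τ) := by
    have h2' : (2 : K0 b.τ) ≠ 0 := fun h => h2 (by
      have := congrArg Subtype.val h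
      push_cast at this
      exact this)
    have h1 : (1 : K0 b.τ) ≠ 0 := one_ne_zero
    have h12 : (2 : K0 b.τ) ≠ 1 := by
      intro h
      apply h1
      have h3 : (1 : K0 b.τ) + 1 = 1 := by rw [one_add_one_eq_two]; exact h
      exact left_eq_add.1 h3.symm
    intro i j hij
    fin_cases i <;> fin_cases j <;> first | rfl | (exfalso; revert hij; simp [h1, h2', h12, h1.symm, h2'.symm, h12.symm])
  have h3 := Nat.card_le_card_of_injective _ hinj
  rwa [Nat.card_eq_fintype_card, Fintype.card_fin] at h3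

end main

/-- **unitary, `n = 8`** -/
theorem stmtBC6_U8 : Cfsg.Agent.H786.FC.StmtBC6On.{u, v} true fun n => n = 8 := by
  intro K _ _ V _ _ _ b hk hb hn S hSb hsol A r a h
  have hU := hk.1 rfl
  have hr : r = 2 := by
    have h1 := h.2.2.1
    have hn' : Module.finrank K V = 8 := hn
    rw [hn'] at h1
    have h2 : (2 : ℕ) ∣ r ^ a := by rw [← h1]; norm_num
    exact ((Nat.prime_dvd_prime_iff_eq Nat.prime_two h.1).1 (Nat.prime_two.dvd_of_dvd_pow h2)).symm
  subst hr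
  have ha : a = 3 := by
    have h1 := h.2.2.1
    have hn' : Module.finrank K V = 8 := hn
    rw [hn'] at h1
    exact (Nat.pow_right_injective (le_refl 2) (show 2 ^ 3 = 2 ^ a by rw [← h1])).symm
  subst ha
  have h2 := two_ne_zero_of h
  have hn' : Module.finrank K V = 8 := hn
  have hA : Nat.card A = 64 := by rw [h.2.2.2.2.2.1]; norm_num
  obtain ⟨w, hw, hww, h1, h4⟩ := exists_good (b := b) hU h h2 (m := 4) hn' (by norm_num) (by
    intro q hq
    have hq3 : 3 ≤ q := by rw [← hq]; exact three_le_card h2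
    rw [hA]
    have e1 : q ^ (4 * 4 - 3) = q ^ 8 * q ^ 5 := by rw [← pow_add]
    have e2 : 243 ≤ q ^ 5 := by
      calc 243 = 3 ^ 5 := by norm_num
        _ ≤ q ^ 5 := Nat.pow_le_pow_left hq3 5
    have e3 : 0 < q ^ 8 := pow_pos (by omega) 8
    rw [e1]
    have e4 : q ^ 8 * 243 ≤ q ^ 8 * q ^ 5 := Nat.mul_le_mul_left _ e2
    have e5 : q ^ (2 * 4) = q ^ 8 := by norm_num
    rw [e5]
    omega)
  have hSP : S ≤ RP K V := fun f hf => (hSb hf).1
  refine five_of_good hSb h hsol hw hww h1 (fun f hf hfc hs _ => h4 f (hSP hf) hfc hs) fun c hN f hf hfc hfx => ?_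
  refine fixN hn' h.2.2.2.2.2.2.2.2.1 h.2.2.2.2.2.2.2.1 h.2.2.2.2.2.2.1 hN (fun y hy hl => h1 y hy hl) (hSb hf)
    fun a ha => ?_
  exact h.2.2.2.2.2.2.2.2.2.1 _ (cj_mem_of _ hf hfx) a ha

end Cfsg.Agent.H563.FC
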