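import Cfsg.Agent.H563.FC.P5
import Cfsg.Agent.H563.FC.U8

/-!
# S5764: `StmtBC6` unitary, `n` prime `≥ 5`, and task 5395 (helper563)
-/

set_option autoImplicit false

namespace Cfsg.Agent.H563.FC

open Module Cfsg.Agent.H198.FC Cfsg.Agent.H277.FC Cfsg.Agent.H706.FC
open Cfsg.Agent.H710.FC (Heis)

universe u v

/-- **unitary, `n ≥ 5` prime** -/
theorem stmtBC6_Uprime : Cfsg.Agent.H786.FC.StmtBC6On.{u, v} true fun n => n.Prime ∧ 5 ≤ n := by
  intro K _ _ V _ _ _ β hk hb hn S hSb hsol A r a hA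
  have hU := hk.1 rfl
  have hn1 : (finrank K V).Prime := hn.1
  have hn5 : 5 ≤ finrank K V := hn.2
  have := nontrivial_of hA
  have hSP : S ≤ RP K V := fun f hf => (hSb hf).1
  obtain ⟨ω, P, Z, hP, hZ, hs⟩ := Cfsg.Agent.H710.FC.exists_heis (hSP.trans RP_le_RA) hA hn1 (by omega)
  have hr5 : 5 ≤ r := by rw [← hs.rank]; exact hn5
  obtain ⟨e, h⟩ := exists_HF (β := β) hs hr5 hU (hSb (hA.2.2.2.1 hP)) (hSb (hA.2.2.2.1 hZ))
  obtain ⟨ε, hε⟩ := hU.1
  obtain ⟨α, hα⟩ := exists_norm_neg_one β.invol hε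
  -- `|K₀| ≥ 4`
  have hq4 : 4 ≤ Nat.card (K0 β.τ) := by
    have hKq : Nat.card K = Nat.card (K0 β.τ) ^ 2 := card_K β.invol hε
    have h1 : orderOf (Units.mk0 ω hs.ω_ne) = r := by
      rw [← orderOf_units, Units.val_mk0]
      exact hs.prim.eq_orderOf.symm
    have h2 : r ∣ Nat.card K - 1 := by
      rw [← h1, ← Nat.card_units]
      exact orderOf_dvd_natCard _
    have h3 : 2 ≤ Nat.card (K0 β.τ) := Finite.one_lt_card
    by_contra hcon
    have h4 : Nat.card (K0 β.τ) = 2 ∨ Nat.card (K0 β.τ) = 3 := by omega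
    rcases h4 with h4 | h4
    · rw [hKq, h4] at h2
      have := Nat.le_of_dvd (by norm_num) h2
      omega
    · rw [hKq, h4] at h2
      have h5 : r ≤ 8 := Nat.le_of_dvd (by norm_num) h2
      have h6 : r ∣ 8 := h2
      interval_cases r
      · omega
      · omega
      · omega
      · exact absurd hs.hr (by norm_num)
  have hD0 := h.D_ne
  set D := β.B (e 0) (e 0) with hD
  have hDτ : β.τ D = D := h.D_fix
  refine five_of_good' hSb hA hsol (h.wv_ne α) (h.wv_iso hα) (fun y hy ⟨l, hl⟩ => h.cond1 hA hP hZ hα hy hl)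
    (fun f hf hfc hτ _ => ?_) D⁻¹ (Or.inr hq4) (fun c hN hcb f hf hfc hfx => ?_)
  · exact absurd (h.sig_om (hSP hf) (hfc _ hP) (hfc _ hZ) hτ) h.tau_ne
  · -- `c` is skew
    have hc0 : c ≠ 0 := by
      rintro rfl
      apply hN.ne_zero
      ext v
      rw [tw_apply, zero_mul, zero_smul]
      rfl
    have hcτ : β.τ c = -c := by
      have h1 := hN.adj (e ((0 : ℕ) : ZMod r)) (e ((0 : ℕ) : ZMod r))
      have h2 : β.B (HF.wv e α) (e ((0 : ℕ) : ZMod r)) = D := by
        rw [hU.2 (e ((0 : ℕ) : ZMod r)) (HF.wv e α), h.B0w, h.D_fix]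
      rw [tw_apply, LinearMap.neg_apply, B_neg_right, tw_apply, β.smul_left, β.smul_right, h.B0w, h2, map_mul,
        h.D_fix, ← hD] at h1
      have h3 : (β.τ c + c) * (D * D) = 0 := by linear_combination h1
      rcases mul_eq_zero.1 h3 with h4 | h4
      · exact eq_neg_of_add_eq_zero_left h4
      · exact absurd h4 (mul_ne_zero hD0 hD0)
    have hcD : β.τ (c * D) = -(c * D) := by rw [map_mul, hcτ, hDτ]; ring
    have hc2 : 1 - c * D ≠ 0 := by
      intro h0
      apply hcb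
      exact eq_inv_of_mul_eq_one_left (sub_eq_zero.1 h0).symm
    have hc1 : 1 + c * D ≠ 0 := by
      intro h0
      have h1 : c * D = -1 := by linear_combination h0
      have h2 := hcD
      rw [h1, map_neg, map_one, neg_neg] at h2
      apply hc2
      rw [h1, h2]
      ring
    exact h.cond3 hA hSb hP hZ hα hc0 hc1 hc2 hN hf hfc hfx

/-- task 5395 -/
theorem stmtBC6_U58 : Cfsg.Agent.H786.FC.StmtBC6On.{u, v} true fun n => n = 5 ∨ n = 8 := by
  intro K _ _ V _ _ _ β hk hb hn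
  rcases hn with h | h
  · exact stmtBC6_Uprime K V β hk hb ⟨by rw [h]; norm_num, by omega⟩
  · exact stmtBC6_U8 K V β hk hb h

theorem stmtBC6_U7 : Cfsg.Agent.H786.FC.StmtBC6On.{u, v} true fun n => n = 7 := by
  intro K _ _ V _ _ _ β hk hb hn
  have hn' : finrank K V = 7 := hn
  exact stmtBC6_Uprime K V β hk hb ⟨by rw [hn']; norm_num, by omega⟩

end Cfsg.Agent.H563.FC
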